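import Groth.Agent.H18Et.FEtNormal
import Groth.Agent.H19Grp.AlgClosedGeom
import Groth.Agent.H19Grp.ImageGroup
import Groth.Agent.H19Grp.ConnFibre
import Groth.Prelude.Def_Red
import Mathlib

/-!
# Smooth morphisms with connected geometric fibres are geometrically integral
-/

set_option autoImplicit false
set_option linter.style.haveILetI false
set_option backward.isDefEq.respectTransparency false

universe u

open CategoryTheory CategoryTheory.Limits AlgebraicGeometry TopologicalSpace

namespace Groth.Agent.H21Taylor

/-- A connected locally Noetherian scheme whose local rings are domains is irreducible. -/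
theorem irreducibleSpace_of_connected_of_domain_stalks (T : Scheme.{u}) [IsLocallyNoetherian T]
    [hT : ConnectedSpace T] (hd : ∀ t : T, IsDomain (T.presheaf.stalk t)) : IrreducibleSpace T := by
  choose w hw hwmax using fun t : T => @H18Et.FEtNormal.exists_maximal_generalization _ t (hd t)
  have huniq : ∀ y z, w z ⤳ y → w z = w y := fun y z h =>
    ((hwmax z (w y) ((hwmax y (w z) h).trans (hw z))).antisymm (hwmax y (w z) h)).eq
  have hopen : ∀ g : T, IsOpen {z | w z = g} := by
    intro g
    rw [isOpen_iff_forall_mem_open]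
    intro z hz
    obtain ⟨_, ⟨W, hW, rfl⟩, hzW, -⟩ :=
      T.isBasis_affineOpens.exists_subset_of_mem_open (Set.mem_univ z) isOpen_univ
    haveI : IsAffine (W : Scheme.{u}) := hW
    haveI : CompactSpace (W : Scheme.{u}) := isCompact_iff_compactSpace.mp hW.isCompact
    haveI : IsNoetherian (W : Scheme.{u}) := {}
    obtain ⟨C, hC, hcl, hir, hU⟩ :=
      NoetherianSpace.exists_finite_set_isClosed_irreducible (α := (W : Scheme.{u})) isClosed_univ
    choose gen hgen using fun Z : C => QuasiSober.sober (hir Z.1 Z.2) (hcl Z.1 Z.2)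
    have hfin : ∀ x ∈ (W : Set T), ∃ Z : C, w x = (gen Z).1 := by
      intro x hx
      have hwW : w x ∈ W := (hw x).mem_open W.isOpen hx
      obtain ⟨Z, hZ, hwZ⟩ : (⟨w x, hwW⟩ : (W : Scheme.{u})) ∈ ⋃₀ C := hU ▸ trivial
      refine ⟨⟨Z, hZ⟩, ?_⟩
      have h1 : (gen ⟨Z, hZ⟩).1 ⤳ w x :=
        ((hgen ⟨Z, hZ⟩).specializes hwZ).map (Scheme.Opens.ι W).continuous
      exact ((hwmax x _ (h1.trans (hw x))).antisymm h1).eq
    haveI := hC.to_subtype
    have hF : (w '' (W : Set T) \ {g}).Finite := by
      refine Set.Finite.sdiff ((Set.finite_range fun Z : C => (gen Z).1).subset ?_)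
      rintro _ ⟨x, hx, rfl⟩
      obtain ⟨Z, hZ⟩ := hfin x hx
      exact ⟨Z, hZ.symm⟩
    refine ⟨(W : Set T) \ ⋃ a ∈ w '' (W : Set T) \ {g}, closure {a}, fun x hx => ?_,
      W.isOpen.sdiff (hF.isClosed_biUnion fun _ _ => isClosed_closure), hzW, fun hb => ?_⟩
    · by_contra hne
      exact hx.2 (Set.mem_biUnion ⟨⟨x, hx.1, rfl⟩, hne⟩ (specializes_iff_mem_closure.mp (hw x)))
    · obtain ⟨_, ⟨⟨x, -, rfl⟩, hne⟩, hzx⟩ := Set.mem_iUnion₂.mp hb
      exact hne ((huniq z x (specializes_iff_mem_closure.mpr hzx)).trans hz)
  obtain ⟨t₀⟩ := hT.toNonempty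
  have hclosed : IsClosed {z | w z = w t₀} := by
    rw [← isOpen_compl_iff, isOpen_iff_forall_mem_open]
    exact fun z hz => ⟨{y | w y = w z}, fun y hy h => hz (hy.symm.trans h), hopen (w z), rfl⟩
  have hall : {z | w z = w t₀} = Set.univ := IsClopen.eq_univ ⟨hclosed, hopen _⟩ ⟨t₀, rfl⟩
  rw [irreducibleSpace_def, Set.top_eq_univ]
  have : closure {w t₀} = Set.univ := Set.eq_univ_of_forall fun z =>
    specializes_iff_mem_closure.mp ((hall.ge (Set.mem_univ z) : w z = w t₀) ▸ hw z)
  rw [← this]
  exact isIrreducible_singleton.closure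

/-- A smooth morphism with connected geometric fibres is geometrically integral. -/
theorem geometricallyIntegral_of_smooth {X S : Scheme.{u}} (f : X ⟶ S) [Smooth f]
    (hconn : ∀ s : S, ConnectedSpace ↥(pullback f (Red.geomPt s))) : GeometricallyIntegral f := by
  haveI : GeometricallyIrreducible f := by
    refine ⟨fun Ω _ y Z a b hP => ?_⟩
    haveI h : IrreducibleSpace ↥(pullback f y) := by
      obtain ⟨⟨s, φ⟩, rfl⟩ := (Scheme.SpecToEquivOfField Ω S).symm.surjective y
      letI : Algebra (S.residueField s) Ω := φ.hom.toAlgebra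
      let L := AlgebraicClosure (S.residueField s)
      let Ω' := AlgebraicClosure Ω
      let ι : L →ₐ[S.residueField s] Ω' := IsAlgClosed.lift
      let f₀ := pullback.snd f (Red.geomPt s)
      haveI : Smooth f₀ := MorphismProperty.pullback_snd (P := @Smooth) _ _ inferInstance
      haveI := hconn s
      haveI : IsLocallyNoetherian (pullback f (Red.geomPt s)) := LocallyOfFiniteType.isLocallyNoetherian f₀
      haveI : IrreducibleSpace ↥(pullback f (Red.geomPt s)) :=
        irreducibleSpace_of_connected_of_domain_stalks _ fun t => by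
          haveI := H19Grp.isRegularLocalRing_stalk_of_smooth f₀ t
          exact H4Depth.isDomain_of_isRegularLocalRing _
      haveI := H19Grp.geometricallyIrreducible_of_irreducibleSpace f₀
      let q : Spec (CommRingCat.of Ω') ⟶ Spec (CommRingCat.of Ω) :=
        Spec.map (CommRingCat.ofHom (algebraMap Ω Ω'))
      let y : Spec (CommRingCat.of Ω) ⟶ S := Spec.map φ ≫ S.fromSpecResidueField s
      change IrreducibleSpace ↥(pullback f y)
      have hy : q ≫ y = Spec.map (CommRingCat.ofHom ι.toRingHom) ≫ Red.geomPt s := by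
        show q ≫ Spec.map φ ≫ _ = _ ≫ Spec.map _ ≫ _
        rw [← Category.assoc, ← Category.assoc, ← Spec.map_comp, ← Spec.map_comp]
        congr 2
        ext r
        show algebraMap Ω Ω' (φ.hom r) = ι (algebraMap _ L r)
        rw [ι.commutes]
        rfl
      haveI hi : IrreducibleSpace ↥(pullback f (q ≫ y)) := by
        haveI : IrreducibleSpace ↥(pullback f₀ (Spec.map (CommRingCat.ofHom ι.toRingHom))) :=
          GeometricallyIrreducible.geometrically_irreducibleSpace _ _ _ (.of_hasPullback _ _)
        rw [hy]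
        exact (Scheme.Hom.homeomorph (pullbackLeftPullbackSndIso f (Red.geomPt s) _).hom).irreducibleSpace_iff.mp
          inferInstance
      let π := pullback.map f (q ≫ y) f y (𝟙 _) q (𝟙 _) (by simp) (by simp)
      haveI : Surjective q := inferInstance
      have hπ : Surjective π := by
        rw [show π = (pullbackLeftPullbackSndIso f y q).inv ≫ pullback.fst (pullback.snd f y) q by
          apply pullback.hom_ext <;> simp [π]]
        infer_instance
      exact hπ.surj.irreducibleSpace π.continuous
    exact (Scheme.Hom.homeomorph hP.isoPullback.inv).surjective.irreducibleSpace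
      (Scheme.Hom.homeomorph hP.isoPullback.inv).continuous
  haveI : GeometricallyReduced f := by
    refine ⟨fun Ω _ y Z a b hP => ?_⟩
    haveI : Smooth b := MorphismProperty.of_isPullback (P := @Smooth) hP inferInstance
    haveI := H19Grp.geometricallyReduced_of_smooth b
    exact GeometricallyReduced.isReduced_of_flat_of_isLocallyNoetherian b
  exact GeometricallyIntegral.of_geometricallyReduced_of_geometricallyIrreducible f

end Groth.Agent.H21Taylor
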