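import Mathlib

/-!
# A subgroup containing an open neighbourhood of the unit of a group with irreducible fibres is everything
-/

set_option autoImplicit false
set_option linter.style.haveILetI false
set_option backward.isDefEq.respectTransparency false

universe u

open CategoryTheory CategoryTheory.Limits MonoidalCategory CartesianMonoidalCategory MonObj GrpObj
  AlgebraicGeometry

namespace Groth.Agent.H21Taylor

/-- A monomorphism through which an fppf covering factors is an isomorphism. -/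
theorem isIso_of_mono_of_factor {W X Y : Scheme.{u}} (i : Y ⟶ X) [Mono i] (q : W ⟶ X) [Flat q]
    [Surjective q] [LocallyOfFinitePresentation q] (l : W ⟶ Y) (hl : l ≫ i = q) : IsIso i := by
  haveI : IsIso (pullback.fst q i) := by
    refine ⟨pullback.lift (𝟙 W) l (by rw [Category.id_comp, hl]), ?_, pullback.lift_fst _ _ _⟩
    apply pullback.hom_ext
    · simp
    · rw [← cancel_mono i]
      simp only [Category.assoc, pullback.lift_snd, Category.id_comp]
      rw [← pullback.condition]
      simp [hl]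
  exact MorphismProperty.of_isPullback_of_descendsAlong
    (P := MorphismProperty.isomorphisms Scheme.{u})
    (Q := @Surjective ⊓ @Flat ⊓ @LocallyOfFinitePresentation)
    (IsPullback.of_hasPullback q i) ⟨⟨‹_›, ‹_›⟩, ‹_›⟩ ‹_›

/-- A submonoid through which an open neighbourhood of the unit section factors is everything. -/
theorem isIso_of_open_nhd_one {S : Scheme.{u}} {X Y : Over S} [GrpObj X] [Flat X.hom]
    [LocallyOfFinitePresentation X.hom] [GeometricallyIrreducible X.hom] (i : Y ⟶ X) [Mono i.left]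
    (hmul : ∀ (T : Over S) (a b : T ⟶ Y), ∃ c : T ⟶ Y, c ≫ i = (a ≫ i) * (b ≫ i))
    (Ω : X.left.Opens) (hone : ∀ s : S, η[X].left s ∈ Ω)
    (l : (Ω : Scheme.{u}) ⟶ Y.left) (hl : l ≫ i.left = Ω.ι) : IsIso i.left := by
  let Ωo : Over S := Over.mk (Ω.ι ≫ X.hom)
  let ω : Ωo ⟶ X := Over.homMk Ω.ι rfl
  let lo : Ωo ⟶ Y := Over.homMk l (by
    show l ≫ Y.hom = Ω.ι ≫ X.hom
    rw [← Over.w i, ← Category.assoc, hl])
  have hlo : lo ≫ i = ω := Over.OverMorphism.ext hl
  let q : Ωo ⊗ Ωo ⟶ X := (fst Ωo Ωo ≫ ω) * (snd Ωo Ωo ≫ ω)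
  obtain ⟨c, hc⟩ := hmul (Ωo ⊗ Ωo) (fst Ωo Ωo ≫ lo) (snd Ωo Ωo ≫ lo)
  have hcq : c ≫ i = q := by rw [hc, Category.assoc, Category.assoc, hlo]
  -- flatness of the multiplication
  let sh : X ⊗ X ≅ X ⊗ X :=
    { hom := lift (fst X X) (fst X X * snd X X)
      inv := lift (fst X X) ((fst X X)⁻¹ * snd X X)
      hom_inv_id := by
        apply CartesianMonoidalCategory.hom_ext
        · simp
        · simp [MonObj.comp_mul, GrpObj.comp_inv]
      inv_hom_id := by
        apply CartesianMonoidalCategory.hom_ext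
        · simp
        · simp [MonObj.comp_mul] }
  have hq : q = MonoidalCategoryStruct.tensorHom ω ω ≫ sh.hom ≫ snd X X := by
    simp [q, sh, MonObj.comp_mul]
  haveI : IsOpenImmersion (MonoidalCategoryStruct.tensorHom ω ω).left := by
    have : (MonoidalCategoryStruct.tensorHom ω ω).left =
        pullback.map (Ω.ι ≫ X.hom) (Ω.ι ≫ X.hom) X.hom X.hom Ω.ι Ω.ι (𝟙 S) (by simp) (by simp) := by
      apply pullback.hom_ext
      · rw [pullback.lift_fst]
        exact congrArg (fun φ : Ωo ⊗ Ωo ⟶ X => φ.left) (tensorHom_fst ω ω)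
      · rw [pullback.lift_snd]
        exact congrArg (fun φ : Ωo ⊗ Ωo ⟶ X => φ.left) (tensorHom_snd ω ω)
    rw [this]
    infer_instance
  haveI : IsIso sh.hom := Iso.isIso_hom sh
  haveI : IsIso sh.hom.left := inferInstanceAs (IsIso ((Over.forget S).map sh.hom))
  haveI : Flat (snd X X).left := inferInstanceAs (Flat (pullback.snd X.hom X.hom))
  haveI : LocallyOfFinitePresentation (snd X X).left :=
    inferInstanceAs (LocallyOfFinitePresentation (pullback.snd X.hom X.hom))
  have hqleft : q.left = (MonoidalCategoryStruct.tensorHom ω ω).left ≫ sh.hom.left ≫ (snd X X).left := by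
    rw [hq, Over.comp_left, Over.comp_left]
  haveI : Flat q.left := by rw [hqleft]; infer_instance
  haveI : LocallyOfFinitePresentation q.left := by rw [hqleft]; infer_instance
  -- surjectivity of the multiplication
  haveI : Surjective q.left := by
    refine ⟨fun x => ?_⟩
    let T : Over S := Over.mk (X.left.fromSpecResidueField x ≫ X.hom)
    let p : T ⟶ X := Over.homMk (X.left.fromSpecResidueField x) rfl
    haveI : IrreducibleSpace ↥(X ⊗ T).left := by
      haveI : GeometricallyIrreducible (pullback.snd X.hom T.hom) := inferInstance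
      haveI : Subsingleton ↥T.left :=
        inferInstanceAs (Subsingleton (PrimeSpectrum (X.left.residueField x)))
      haveI : IrreducibleSpace ↥T.left :=
        inferInstanceAs (IrreducibleSpace (PrimeSpectrum (X.left.residueField x)))
      exact GeometricallyIrreducible.irreducibleSpace_of_subsingleton (pullback.snd X.hom T.hom)
    let b : X ⊗ T ⟶ X := (fst X T)⁻¹ * (snd X T ≫ p)
    let t₀ : T.left := IsLocalRing.closedPoint (X.left.residueField x)
    have hone' : (toUnit T ≫ η[X]).left t₀ ∈ Ω := by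
      rw [Over.comp_left, Scheme.Hom.comp_apply]
      exact hone _
    have ho1 : ((fst X T).left ⁻¹ᵁ Ω : Set ↥(X ⊗ T).left).Nonempty := by
      refine ⟨(lift (toUnit T ≫ η[X]) (𝟙 T)).left t₀, ?_⟩
      show (fst X T).left ((lift (toUnit T ≫ η[X]) (𝟙 T)).left t₀) ∈ Ω
      rw [← Scheme.Hom.comp_apply, ← Over.comp_left, lift_fst]
      exact hone'
    have ho2 : (b.left ⁻¹ᵁ Ω : Set ↥(X ⊗ T).left).Nonempty := by
      refine ⟨(lift p (𝟙 T)).left t₀, ?_⟩
      show b.left ((lift p (𝟙 T)).left t₀) ∈ Ω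
      rw [← Scheme.Hom.comp_apply, ← Over.comp_left]
      have : lift p (𝟙 T) ≫ b = toUnit T ≫ η[X] := by
        rw [← Hom.one_def]
        simp [b, MonObj.comp_mul, GrpObj.comp_inv]
      rw [this]
      exact hone'
    obtain ⟨z, hz1, hz2⟩ := nonempty_preirreducible_inter ((fst X T).left ⁻¹ᵁ Ω).isOpen
      (b.left ⁻¹ᵁ Ω).isOpen ho1 ho2
    let T' : Over S := Over.mk ((X ⊗ T).left.fromSpecResidueField z ≫ (X ⊗ T).hom)
    let ζ : T' ⟶ X ⊗ T := Over.homMk ((X ⊗ T).left.fromSpecResidueField z) rfl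
    have key : ∀ (φ : X ⊗ T ⟶ X), φ.left z ∈ Ω → ∃ k : T' ⟶ Ωo, k ≫ ω = ζ ≫ φ := by
      intro φ hφ
      have hr : Set.range (ζ ≫ φ).left ⊆ Set.range Ω.ι := by
        rintro _ ⟨w, rfl⟩
        rw [Scheme.Opens.range_ι, Over.comp_left, Scheme.Hom.comp_apply]
        have : ζ.left w = z := (X ⊗ T).left.range_fromSpecResidueField z |>.le ⟨w, rfl⟩
        rw [this]
        exact hφ
      refine ⟨Over.homMk (IsOpenImmersion.lift Ω.ι (ζ ≫ φ).left hr) ?_,
        Over.OverMorphism.ext (IsOpenImmersion.lift_fac _ _ _)⟩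
      show IsOpenImmersion.lift Ω.ι (ζ ≫ φ).left hr ≫ Ω.ι ≫ X.hom = T'.hom
      rw [IsOpenImmersion.lift_fac_assoc, Over.w]
    obtain ⟨k₁, hk₁⟩ := key (fst X T) hz1
    obtain ⟨k₂, hk₂⟩ := key b hz2
    have hk : lift k₁ k₂ ≫ q = (ζ ≫ snd X T) ≫ p := by
      simp only [q, MonObj.comp_mul, lift_fst_assoc, lift_snd_assoc, hk₁, hk₂]
      simp [b, MonObj.comp_mul, GrpObj.comp_inv]
    refine ⟨(lift k₁ k₂).left (IsLocalRing.closedPoint ((X ⊗ T).left.residueField z)), ?_⟩
    rw [← Scheme.Hom.comp_apply, ← Over.comp_left, hk, Over.comp_left, Scheme.Hom.comp_apply]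
    exact X.left.range_fromSpecResidueField x |>.le ⟨_, rfl⟩
  exact isIso_of_mono_of_factor i.left q.left c.left (congrArg (fun φ : _ ⟶ X => φ.left) hcq)

end Groth.Agent.H21Taylor
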