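import Groth.Agent.H21Taylor.MonoChart
import Groth.Agent.H19Grp.ConnFibre
import Groth.Agent.H19Grp.Transporter
import Groth.Agent.H7Lim.DescendUnramified
import Mathlib

/-!
# Transporters of smooth groups with connected fibres into monomorphisms
-/

set_option autoImplicit false
set_option linter.style.haveILetI false
set_option backward.isDefEq.respectTransparency false
set_option synthInstance.maxHeartbeats 100000
set_option maxHeartbeats 1000000

universe u

open CategoryTheory CategoryTheory.Limits MonoidalCategory CartesianMonoidalCategory MonObj GrpObj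
  AlgebraicGeometry

namespace Groth.Agent.H21Taylor

/-- A group scheme with connected fibres has geometrically irreducible fibres. -/
theorem geometricallyIrreducible_of_connected_fibres {S : Scheme.{u}} (H : Over S) [GrpObj H]
    [LocallyOfFiniteType H.hom]
    (hconn : ∀ s : S, ConnectedSpace ↥(pullback H.hom (S.fromSpecResidueField s))) :
    GeometricallyIrreducible H.hom := by
  refine ⟨fun Ω _ y P a b hP => ?_⟩
  haveI := H19Grp.irreducibleSpace_pullback_of_connected_fibres H hconn y
  exact (Scheme.Hom.homeomorph hP.isoPullback.inv).surjective.irreducibleSpace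
    (Scheme.Hom.homeomorph hP.isoPullback.inv).continuous

theorem bcEquiv_symm_one {S S' : Scheme.{u}} (f : S' ⟶ S) (X : Over S) [GrpObj X] (T : Over S') :
    letI : GrpObj (Red.bc f X) := Functor.grpObjObj
    (H21Diag.bcEquiv f X T).symm 1 = 1 := by
  letI : GrpObj (Red.bc f X) := Functor.grpObjObj
  show (H21Diag.bcEquiv f X T).symm 1 = 1
  have h := H21Diag.bcEquiv_symm_mul f X T 1 1
  rw [_root_.one_mul] at h
  exact mul_eq_left.mp h.symm

/-- The closed subscheme of `G` over which a family of elements of `H` lands in a monomorphism. -/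
theorem exists_closed_forall_factor_grp {S : Scheme.{u}} {G H Z Z' : Over S} [GrpObj H] [Smooth H.hom]
    (hconn : ∀ s : S, ConnectedSpace ↥(pullback H.hom (S.fromSpecResidueField s)))
    (c : H ⊗ G ⟶ Z) (k : Z' ⟶ Z) [Mono k.left] [LocallyOfFinitePresentation k.left]
    (h1 : ∀ (T : Over S) (g : T ⟶ G), ∃ κ : T ⟶ Z', κ ≫ k = lift (1 : T ⟶ H) g ≫ c)
    (hm : ∀ (T : Over S) (g : T ⟶ G) (a b : T ⟶ H),
      (∃ κ : T ⟶ Z', κ ≫ k = lift a g ≫ c) → (∃ κ : T ⟶ Z', κ ≫ k = lift b g ≫ c) →
        ∃ κ : T ⟶ Z', κ ≫ k = lift (a * b) g ≫ c) :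
    ∃ (T : Over S) (t : T ⟶ G), IsClosedImmersion t.left ∧ LocallyOfFinitePresentation t.left ∧
      ∀ (X : Over S) (g : X ⟶ G), (∃ z : X ⟶ T, z ≫ t = g) ↔
        ∀ (X' : Over S) (x : X' ⟶ X) (h : X' ⟶ H), ∃ κ : X' ⟶ Z', κ ≫ k = lift h (x ≫ g) ≫ c := by
  haveI : GeometricallyIrreducible H.hom := geometricallyIrreducible_of_connected_fibres H hconn
  let XG : Over G.left := Red.bc G.hom H
  letI : GrpObj XG := Functor.grpObjObj
  haveI : Smooth XG.hom := MorphismProperty.pullback_snd (P := @Smooth) H.hom G.hom ‹_›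
  haveI : GeometricallyIrreducible XG.hom :=
    inferInstanceAs (GeometricallyIrreducible (pullback.snd H.hom G.hom))
  let P := pullback c.left k.left
  let YG : Over G.left := Over.mk (pullback.fst c.left k.left ≫ pullback.snd H.hom G.hom)
  let iG : YG ⟶ XG := Over.homMk (pullback.fst c.left k.left) rfl
  haveI : Mono iG.left := inferInstanceAs (Mono (pullback.fst c.left k.left))
  haveI : LocallyOfFinitePresentation iG.left :=
    inferInstanceAs (LocallyOfFinitePresentation (pullback.fst c.left k.left))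
  -- factoring through `iG` is the condition on points
  have key : ∀ (T : Over G.left) (a : T ⟶ XG), (∃ b : T ⟶ YG, b ≫ iG = a) ↔
      ∃ κ : (Over.map G.hom).obj T ⟶ Z', κ ≫ k =
        lift ((H21Diag.bcEquiv G.hom H T).symm a) (Over.homMk T.hom rfl) ≫ c := by
    intro T a
    let h := (H21Diag.bcEquiv G.hom H T).symm a
    have hfst : a.left ≫ pullback.fst H.hom G.hom = h.left := by
      rw [show a = H21Diag.bcEquiv G.hom H T h from ((H21Diag.bcEquiv G.hom H T).apply_symm_apply a).symm]
      exact H21Diag.bcEquiv_left_fst G.hom H T h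
    have hlift : (lift h (Over.homMk T.hom rfl : (Over.map G.hom).obj T ⟶ G)).left = a.left := by
      apply pullback.hom_ext
      · rw [hfst]
        exact congrArg (fun φ : (Over.map G.hom).obj T ⟶ H => φ.left) (lift_fst h _)
      · exact (congrArg (fun φ : (Over.map G.hom).obj T ⟶ G => φ.left) (lift_snd h _)).trans (Over.w a).symm
    constructor
    · rintro ⟨b, hb⟩
      have hb' : b.left ≫ pullback.fst c.left k.left = a.left := congrArg (fun φ : T ⟶ XG => φ.left) hb
      have e : (b.left ≫ pullback.snd c.left k.left) ≫ k.left = a.left ≫ c.left := by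
        rw [Category.assoc, ← pullback.condition, reassoc_of% hb']
      refine ⟨Over.homMk (b.left ≫ pullback.snd c.left k.left) ?_, Over.OverMorphism.ext ?_⟩
      · rw [← Over.w k, ← Category.assoc, e, Category.assoc, Over.w c, ← hlift]
        exact Over.w (lift h _)
      · exact e.trans (congrArg (· ≫ c.left) hlift.symm)
    · rintro ⟨κ, hκ⟩
      have e : a.left ≫ c.left = κ.left ≫ k.left := by
        rw [← hlift, ← Over.comp_left, ← hκ, Over.comp_left]
      refine ⟨Over.homMk (pullback.lift a.left κ.left e) ?_, Over.OverMorphism.ext (pullback.lift_fst _ _ _)⟩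
      show pullback.lift a.left κ.left e ≫ pullback.fst c.left k.left ≫ pullback.snd H.hom G.hom = T.hom
      rw [pullback.lift_fst_assoc]
      exact Over.w a
  obtain ⟨e', he'⟩ : ∃ e' : 𝟙_ (Over G.left) ⟶ YG, e' ≫ iG = η[XG] := by
    rw [key]
    have : η[XG] = (1 : 𝟙_ (Over G.left) ⟶ XG) := by
      rw [Hom.one_def, Subsingleton.elim (toUnit (𝟙_ (Over G.left))) (𝟙 _), Category.id_comp]
    rw [this, bcEquiv_symm_one]
    exact h1 _ _
  have hmul : ∀ (T : Over G.left) (a b : T ⟶ YG), ∃ z : T ⟶ YG, z ≫ iG = (a ≫ iG) * (b ≫ iG) := by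
    intro T a b
    rw [key, H21Diag.bcEquiv_symm_mul]
    exact hm _ _ _ _ ((key T _).mp ⟨a, rfl⟩) ((key T _).mp ⟨b, rfl⟩)
  obtain ⟨T, t, ht, htfp, hT⟩ := exists_closed_contains_mono iG e' he' hmul
  refine ⟨Over.mk (t ≫ G.hom), Over.homMk t rfl, ht, htfp, fun X g => ?_⟩
  have hz : (∃ z : X ⟶ Over.mk (t ≫ G.hom), z ≫ Over.homMk t rfl = g) ↔
      H19Grp.Contains XG.hom iG.left g.left := by
    rw [← hT]
    constructor
    · rintro ⟨z, rfl⟩
      exact ⟨z.left, rfl⟩
    · rintro ⟨z, hz⟩
      refine ⟨Over.homMk z ?_, Over.OverMorphism.ext hz⟩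
      show z ≫ t ≫ G.hom = X.hom
      rw [← Category.assoc, hz, Over.w]
  rw [hz]
  constructor
  · rintro ⟨l, hl⟩ X' x h
    let T₁ : Over G.left := Over.mk (x ≫ g).left
    let u : (Over.map G.hom).obj T₁ ⟶ X' := Over.homMk (𝟙 _) (by
      show 𝟙 _ ≫ X'.hom = (x ≫ g).left ≫ G.hom
      rw [Category.id_comp, Over.w])
    let u' : X' ⟶ (Over.map G.hom).obj T₁ := Over.homMk (𝟙 _) (by
      show 𝟙 _ ≫ (x ≫ g).left ≫ G.hom = X'.hom
      rw [Category.id_comp, Over.w])
    let a : T₁ ⟶ XG := H21Diag.bcEquiv G.hom H T₁ (u ≫ h)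
    have ha : a.left ≫ XG.hom = x.left ≫ g.left := Over.w a
    let w : X'.left ⟶ pullback XG.hom g.left := pullback.lift a.left x.left ha
    have hb : (∃ b : T₁ ⟶ YG, b ≫ iG = a) := by
      have e : (w ≫ l) ≫ iG.left = a.left := by rw [Category.assoc, hl, pullback.lift_fst]
      refine ⟨Over.homMk (w ≫ l) ?_, Over.OverMorphism.ext e⟩
      show (w ≫ l) ≫ YG.hom = T₁.hom
      rw [← Over.w iG, ← Category.assoc, e]
      exact Over.w a
    obtain ⟨κ, hκ⟩ := (key T₁ a).mp hb
    refine ⟨u' ≫ κ, ?_⟩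
    rw [Category.assoc, hκ, ← Category.assoc, comp_lift, Equiv.symm_apply_apply, ← Category.assoc]
    congr 1
  · intro hX
    let X' : Over S := Over.mk (pullback.snd XG.hom g.left ≫ X.hom)
    let x : X' ⟶ X := Over.homMk (pullback.snd XG.hom g.left) rfl
    let T₁ : Over G.left := Over.mk (pullback.fst XG.hom g.left ≫ XG.hom)
    let a : T₁ ⟶ XG := Over.homMk (pullback.fst XG.hom g.left) rfl
    let u : (Over.map G.hom).obj T₁ ⟶ X' := Over.homMk (𝟙 _) (by
      show 𝟙 _ ≫ pullback.snd XG.hom g.left ≫ X.hom = (pullback.fst XG.hom g.left ≫ XG.hom) ≫ G.hom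
      rw [Category.id_comp, pullback.condition, Category.assoc, Over.w g])
    let u' : X' ⟶ (Over.map G.hom).obj T₁ := Over.homMk (𝟙 _) (by
      show 𝟙 _ ≫ (pullback.fst XG.hom g.left ≫ XG.hom) ≫ G.hom = pullback.snd XG.hom g.left ≫ X.hom
      rw [Category.id_comp, pullback.condition, Category.assoc, Over.w g])
    obtain ⟨κ, hκ⟩ := hX X' x (u' ≫ (H21Diag.bcEquiv G.hom H T₁).symm a)
    have huu : u ≫ u' = 𝟙 _ := Over.OverMorphism.ext (Category.id_comp _)
    obtain ⟨b, hb⟩ := (key T₁ a).mpr ⟨u ≫ κ, by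
      rw [Category.assoc, hκ, ← Category.assoc, comp_lift, reassoc_of% huu]
      congr 1
      apply CartesianMonoidalCategory.hom_ext
      · rw [lift_fst, lift_fst]
      · rw [lift_snd, lift_snd]
        refine Over.OverMorphism.ext ?_
        show 𝟙 _ ≫ pullback.snd XG.hom g.left ≫ g.left = pullback.fst XG.hom g.left ≫ XG.hom
        rw [Category.id_comp, pullback.condition]⟩
    exact ⟨b.left, congrArg (fun φ : T₁ ⟶ XG => φ.left) hb⟩

end Groth.Agent.H21Taylor
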