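import Groth.Agent.H21Taylor.Flat
import Groth.Agent.H19Grp.PiClosedRing
import Mathlib

/-!
# Taylor expansions along a section of a smooth algebra over an arbitrary ring
-/

set_option autoImplicit false
set_option linter.style.haveILetI false

universe u

open TensorProduct Algebra.TensorProduct

namespace Groth.Agent.H21Taylor

section Basic

variable {R P : Type u} [CommRing R] [CommRing P] [Algebra R P]

/-- Base change of a section. -/
noncomputable def baseSection (ε : P →ₐ[R] R) (C : Type u) [CommRing C] [Algebra R C] :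
    C ⊗[R] P →ₐ[C] C :=
  Algebra.TensorProduct.lift (Algebra.ofId C C) ((Algebra.ofId R C).comp ε) fun _ _ => Commute.all _ _

theorem baseSection_tmul (ε : P →ₐ[R] R) (C : Type u) [CommRing C] [Algebra R C] (c : C) (p : P) :
    baseSection ε C (c ⊗ₜ p) = c * algebraMap R C (ε p) := rfl

theorem ker_baseSection (ε : P →ₐ[R] R) (C : Type u) [CommRing C] [Algebra R C] :
    RingHom.ker (baseSection ε C) =
      (RingHom.ker ε).map (includeRight : P →ₐ[R] C ⊗[R] P).toRingHom := by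
  refine le_antisymm (fun z hz => ?_) (Ideal.map_le_iff_le_comap.mpr fun p hp => ?_)
  · have h : ∀ z : C ⊗[R] P, z - baseSection ε C z ⊗ₜ[R] (1 : P) ∈
        (RingHom.ker ε).map (includeRight : P →ₐ[R] C ⊗[R] P).toRingHom := by
      intro z
      induction z using TensorProduct.induction_on with
      | zero => simp
      | tmul c p =>
        have hp : p - algebraMap R P (ε p) ∈ RingHom.ker ε := by simp [RingHom.mem_ker]
        have h1 := Ideal.mul_mem_left _ (c ⊗ₜ[R] (1 : P))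
          (Ideal.mem_map_of_mem (includeRight : P →ₐ[R] C ⊗[R] P).toRingHom hp)
        rw [show (includeRight : P →ₐ[R] C ⊗[R] P).toRingHom (p - algebraMap R P (ε p)) = (1 : C) ⊗ₜ[R] (p - algebraMap R P (ε p)) from rfl, tmul_mul_tmul, mul_one, one_mul, tmul_sub] at h1
        rw [baseSection_tmul]
        convert h1 using 2
        rw [Algebra.algebraMap_eq_smul_one (ε p), Algebra.algebraMap_eq_smul_one (ε p),
          mul_smul_comm, mul_one, smul_tmul]
      | add x y hx hy =>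
        rw [map_add, add_tmul, add_sub_add_comm]
        exact add_mem hx hy
    have := h z
    rwa [RingHom.mem_ker.mp hz, zero_tmul, sub_zero] at this
  · rw [Ideal.mem_comap, RingHom.mem_ker]
    change baseSection ε C ((1 : C) ⊗ₜ[R] p) = 0
    rw [baseSection_tmul, RingHom.mem_ker.mp hp,
      map_zero, mul_zero]

theorem ker_baseSection_pow (ε : P →ₐ[R] R) (C : Type u) [CommRing C] [Algebra R C] (n : ℕ) :
    RingHom.ker (baseSection ε C) ^ n =
      (RingHom.ker ε ^ n).map (includeRight : P →ₐ[R] C ⊗[R] P).toRingHom := by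
  rw [ker_baseSection, Ideal.map_pow]

theorem tmul_mk_eq_zero_iff (J : Ideal P) (C : Type u) [CommRing C] [Algebra R C] (x : P) :
    Ideal.Quotient.mk J x ⊗ₜ[R] (1 : C) = 0 ↔
      (1 : C) ⊗ₜ[R] x ∈ J.map (includeRight : P →ₐ[R] C ⊗[R] P).toRingHom := by
  have h := lTensor_ker (A := C) (Ideal.Quotient.mkₐ R J) (Ideal.Quotient.mkₐ_surjective R J)
  have h' : RingHom.ker (Ideal.Quotient.mkₐ R J) = J := Ideal.mk_ker
  rw [h'] at h
  change _ ↔ _ ∈ Ideal.map (includeRight : P →ₐ[R] C ⊗[R] P) J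
  rw [← h, RingHom.mem_ker, Algebra.TensorProduct.map_tmul, AlgHom.id_apply, Ideal.Quotient.mkₐ_eq_mk]
  exact ⟨fun h0 => by simpa using congrArg (TensorProduct.comm R (P ⧸ J) C) h0,
    fun h0 => by simpa using congrArg (TensorProduct.comm R C (P ⧸ J)) h0⟩

/-- The ideal of all Taylor coefficients of a set of elements. -/
noncomputable def taylorIdeal (ε : P →ₐ[R] R) (s : Set P) : Ideal R :=
  ⨆ n : ℕ, H19Grp.coeffIdeal R (Ideal.Quotient.mk (RingHom.ker ε ^ n) '' s)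

theorem taylorIdeal_le_iff [Algebra.FormallySmooth R P] (ε : P →ₐ[R] R) (s : Set P)
    (C : Type u) [CommRing C] [Algebra R C] :
    taylorIdeal ε s ≤ RingHom.ker (algebraMap R C) ↔
      ∀ x ∈ s, ∀ n : ℕ, (1 : C) ⊗ₜ[R] x ∈ RingHom.ker (baseSection ε C) ^ n := by
  rw [taylorIdeal, iSup_le_iff]
  constructor
  · intro h x hx n
    haveI := projective_quot_pow R P ε n
    rw [ker_baseSection_pow, ← tmul_mk_eq_zero_iff]
    exact (H19Grp.coeffIdeal_le_iff C).mp (h n) _ ⟨x, hx, rfl⟩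
  · intro h n
    haveI := projective_quot_pow R P ε n
    refine (H19Grp.coeffIdeal_le_iff C).mpr ?_
    rintro _ ⟨x, hx, rfl⟩
    rw [tmul_mk_eq_zero_iff, ← ker_baseSection_pow]
    exact h x hx n

end Basic

section Model

variable {R R₁ P P₁ : Type u} [CommRing R] [CommRing R₁] [CommRing P] [CommRing P₁]
  [Algebra R₁ R] [Algebra R P] [Algebra R₁ P₁]

theorem ker_eq_map_model (e : R ⊗[R₁] P₁ ≃ₐ[R] P) (ε : P →ₐ[R] R) (ε₁ : P₁ →ₐ[R₁] R₁)
    (hε : ∀ p, ε (e (1 ⊗ₜ p)) = algebraMap R₁ R (ε₁ p)) :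
    RingHom.ker ε =
      (RingHom.ker ε₁).map (e.toRingEquiv.toRingHom.comp (includeRight : P₁ →ₐ[R₁] R ⊗[R₁] P₁).toRingHom) := by
  have h1 : ε.comp e.toAlgHom = baseSection ε₁ R := by
    refine AlgHom.ext fun z => ?_
    induction z using TensorProduct.induction_on with
    | zero => simp
    | tmul r p =>
      have : (r ⊗ₜ[R₁] p : R ⊗[R₁] P₁) = r • (1 ⊗ₜ p) := by simp [smul_tmul']
      rw [this, map_smul, map_smul]
      congr 1
      rw [baseSection_tmul, one_mul]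
      exact hε p
    | add x y hx hy => rw [map_add, map_add, hx, hy]
  have h2 : RingHom.ker ε = (RingHom.ker (baseSection ε₁ R)).map e.toRingEquiv.toRingHom := by
    rw [← h1]
    refine le_antisymm (fun z hz => ?_) (Ideal.map_le_iff_le_comap.mpr fun z hz => hz)
    obtain ⟨w, rfl⟩ := e.surjective z
    exact Ideal.mem_map_of_mem e.toRingEquiv.toRingHom hz
  rw [h2, ker_baseSection]
  exact Ideal.map_map _ _

theorem taylorIdeal_model [Algebra.FormallySmooth R P] [Algebra.FormallySmooth R₁ P₁]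
    (e : R ⊗[R₁] P₁ ≃ₐ[R] P) (ε : P →ₐ[R] R) (ε₁ : P₁ →ₐ[R₁] R₁)
    (hε : ∀ p, ε (e (1 ⊗ₜ p)) = algebraMap R₁ R (ε₁ p)) (s : Set P₁) :
    taylorIdeal ε ((fun p => e (1 ⊗ₜ p)) '' s) = (taylorIdeal ε₁ s).map (algebraMap R₁ R) := by
  have key : ∀ (C : Type u) [CommRing C] [Algebra R C],
      taylorIdeal ε ((fun p => e (1 ⊗ₜ p)) '' s) ≤ RingHom.ker (algebraMap R C) ↔
        (taylorIdeal ε₁ s).map (algebraMap R₁ R) ≤ RingHom.ker (algebraMap R C) := by
    intro C _ _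
    letI : Algebra R₁ C := ((algebraMap R C).comp (algebraMap R₁ R)).toAlgebra
    haveI : IsScalarTower R₁ R C := IsScalarTower.of_algebraMap_eq fun _ => rfl
    rw [Ideal.map_le_iff_le_comap, RingHom.comap_ker, ← IsScalarTower.algebraMap_eq R₁ R C,
      taylorIdeal_le_iff, taylorIdeal_le_iff, Set.forall_mem_image]
    let E : C ⊗[R₁] P₁ ≃ₐ[C] C ⊗[R] P :=
      (cancelBaseChange R₁ R C C P₁).symm.trans (Algebra.TensorProduct.congr AlgEquiv.refl e)
    have hE : ∀ p : P₁, E ((1 : C) ⊗ₜ p) = (1 : C) ⊗ₜ[R] e (1 ⊗ₜ p) := by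
      intro p
      have : (cancelBaseChange R₁ R C C P₁).symm ((1 : C) ⊗ₜ p) = (1 : C) ⊗ₜ[R] ((1 : R) ⊗ₜ[R₁] p) := by
        rw [AlgEquiv.symm_apply_eq, cancelBaseChange_tmul, one_smul]
      simp only [E, AlgEquiv.trans_apply, this]
      rfl
    have hker : RingHom.ker (baseSection ε C) =
        (RingHom.ker (baseSection ε₁ C)).map E.toRingEquiv.toRingHom := by
      rw [ker_baseSection, ker_baseSection, ker_eq_map_model e ε ε₁ hε, Ideal.map_map, Ideal.map_map]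
      refine congrArg (fun ψ => Ideal.map ψ (RingHom.ker ε₁)) (RingHom.ext fun p => ?_)
      exact (hE p).symm
    refine forall₂_congr fun x _ => forall_congr' fun n => ?_
    rw [← hE x, hker, ← Ideal.map_pow]
    exact Ideal.apply_mem_of_equiv_iff (f := E.toRingEquiv)
  refine le_antisymm ?_ ?_
  · have h := (key (R ⧸ (taylorIdeal ε₁ s).map (algebraMap R₁ R))).mpr
      (by rw [Ideal.Quotient.algebraMap_eq, Ideal.mk_ker])
    rwa [Ideal.Quotient.algebraMap_eq, Ideal.mk_ker] at h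
  · have h := (key (R ⧸ taylorIdeal ε ((fun p => e (1 ⊗ₜ p)) '' s))).mp
      (by rw [Ideal.Quotient.algebraMap_eq, Ideal.mk_ker])
    rwa [Ideal.Quotient.algebraMap_eq, Ideal.mk_ker] at h

end Model

/-- A finite set of elements of a smooth algebra with a section comes from a Noetherian model. -/
theorem exists_model (R P : Type u) [CommRing R] [CommRing P] [Algebra R P] [Algebra.Smooth R P]
    (ε : P →ₐ[R] R) (s : Finset P) :
    ∃ (R₁ P₁ : Type u) (_ : CommRing R₁) (_ : CommRing P₁) (_ : Algebra R₁ R) (_ : Algebra R₁ P₁)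
      (e : R ⊗[R₁] P₁ ≃ₐ[R] P) (ε₁ : P₁ →ₐ[R₁] R₁) (s₁ : Set P₁),
      IsNoetherianRing R₁ ∧ IsNoetherianRing P₁ ∧ Algebra.FormallySmooth R₁ P₁ ∧
      Function.Injective (algebraMap R₁ R) ∧
      (∀ p, ε (e (1 ⊗ₜ p)) = algebraMap R₁ R (ε₁ p)) ∧ (fun p => e (1 ⊗ₜ p)) '' s₁ = s := by
  classical
  obtain ⟨A₀, P₀, _, _, hA₀, hP₀, ⟨e₀⟩⟩ := Algebra.Smooth.exists_subalgebra_fg ℤ R P
  haveI := hP₀
  obtain ⟨g, hg⟩ := (inferInstance : Algebra.FiniteType A₀ P₀).out
  choose rep hrep using fun x : P => TensorProduct.exists_finset (e₀ x)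
  let T : Set R := ((fun p : P₀ => ε (e₀.symm (1 ⊗ₜ p))) '' (g : Set P₀)) ∪
    ⋃ x ∈ s, Prod.fst '' (rep x : Set (R × P₀))
  have hT : T.Finite :=
    (g.finite_toSet.image _).union (s.finite_toSet.biUnion fun x _ => (rep x).finite_toSet.image _)
  let A₁ : Subalgebra ℤ R := A₀ ⊔ Algebra.adjoin ℤ T
  letI : Algebra A₀ A₁ := (Subalgebra.inclusion (le_sup_left : A₀ ≤ A₁)).toAlgebra
  haveI : IsScalarTower A₀ A₁ R := IsScalarTower.of_algebraMap_eq fun _ => rfl
  haveI : Algebra.FiniteType ℤ A₁ := (Subalgebra.fg_iff_finiteType A₁).mp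
    (hA₀.sup (Subalgebra.fg_def.mpr ⟨T, hT, rfl⟩))
  haveI hN : IsNoetherianRing A₁ := Algebra.FiniteType.isNoetherianRing ℤ A₁
  let P₁ := A₁ ⊗[A₀] P₀
  haveI : IsNoetherianRing P₁ := Algebra.FiniteType.isNoetherianRing A₁ P₁
  let e : R ⊗[A₁] P₁ ≃ₐ[R] P := (cancelBaseChange A₀ A₁ R R P₀).trans e₀.symm
  have he : ∀ p : P₀, e (1 ⊗ₜ (1 ⊗ₜ p)) = e₀.symm (1 ⊗ₜ p) := fun p => by
    show e₀.symm (cancelBaseChange A₀ A₁ R R P₀ ((1 : R) ⊗ₜ[A₁] ((1 : A₁) ⊗ₜ[A₀] p))) = _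
    rw [cancelBaseChange_tmul, one_smul]
  let η : P₀ →ₐ[A₀] R := ((ε.comp e₀.symm.toAlgHom).restrictScalars A₀).comp includeRight
  have hη : ∀ p, η p ∈ A₁ := by
    intro p
    have hp : p ∈ Algebra.adjoin A₀ (g : Set P₀) := hg ▸ trivial
    induction hp using Algebra.adjoin_induction with
    | mem q hq =>
      exact (le_sup_right : _ ≤ A₁) (Algebra.subset_adjoin (Or.inl ⟨q, hq, rfl⟩))
    | algebraMap a =>
      rw [AlgHom.commutes]
      exact (le_sup_left : A₀ ≤ A₁) a.2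
    | add q r _ _ hq hr => rw [map_add]; exact add_mem hq hr
    | mul q r _ _ hq hr => rw [map_mul]; exact mul_mem hq hr
  let η₁ : P₀ →ₐ[A₀] A₁ :=
    { toFun := fun p => ⟨η p, hη p⟩
      map_one' := Subtype.ext (map_one η)
      map_mul' := fun p q => Subtype.ext (map_mul η p q)
      map_zero' := Subtype.ext (map_zero η)
      map_add' := fun p q => Subtype.ext (map_add η p q)
      commutes' := fun a => Subtype.ext (η.commutes a) }
  let ε₁ : P₁ →ₐ[A₁] A₁ := Algebra.TensorProduct.lift (Algebra.ofId A₁ A₁) η₁ fun _ _ => Commute.all _ _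
  have hε : ∀ p : P₁, ε (e (1 ⊗ₜ p)) = algebraMap A₁ R (ε₁ p) := by
    intro p
    induction p using TensorProduct.induction_on with
    | zero => simp
    | tmul a q =>
      show ε (e₀.symm (cancelBaseChange A₀ A₁ R R P₀ ((1 : R) ⊗ₜ[A₁] (a ⊗ₜ[A₀] q)))) = algebraMap A₁ R (a * η₁ q)
      rw [cancelBaseChange_tmul, Algebra.smul_def, mul_one]
      have h1 : (algebraMap A₁ R a) ⊗ₜ[A₀] q = algebraMap A₁ R a • ((1 : R) ⊗ₜ[A₀] q) := by
        rw [smul_tmul', smul_eq_mul, mul_one]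
      rw [h1, map_smul, map_smul, map_mul]
      rfl
    | add x y hx hy => rw [tmul_add, map_add, map_add, hx, hy, map_add, map_add]
  refine ⟨A₁, P₁, inferInstance, inferInstance, inferInstance, inferInstance, e, ε₁,
    {p | e (1 ⊗ₜ p) ∈ (s : Set P)}, hN, inferInstance, inferInstance, Subtype.val_injective, hε, ?_⟩
  refine Set.Subset.antisymm (by rintro _ ⟨p, hp, rfl⟩; exact hp) fun x hx => ?_
  have hmem : ∀ z ∈ rep x, z.1 ∈ A₁ := fun z hz =>
    (le_sup_right : _ ≤ A₁) (Algebra.subset_adjoin (Or.inr (Set.mem_biUnion hx ⟨z, hz, rfl⟩)))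
  let x₁ : P₁ := ∑ z ∈ (rep x).attach, (⟨z.1.1, hmem z.1 z.2⟩ : A₁) ⊗ₜ[A₀] z.1.2
  have hx₁ : e (1 ⊗ₜ x₁) = x := by
    rw [← e₀.symm_apply_apply x, hrep x]
    simp only [x₁, tmul_sum, map_sum]
    rw [← Finset.sum_attach (rep x)]
    refine Finset.sum_congr rfl fun z _ => ?_
    show e₀.symm (cancelBaseChange A₀ A₁ R R P₀ ((1 : R) ⊗ₜ[A₁] ((⟨z.1.1, hmem z.1 z.2⟩ : A₁) ⊗ₜ[A₀] z.1.2))) = _
    rw [cancelBaseChange_tmul, Algebra.smul_def, mul_one]
    rfl
  exact ⟨x₁, show e (1 ⊗ₜ x₁) ∈ (s : Set P) from hx₁.symm ▸ hx, hx₁⟩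

/-- Taylor ideals of finite sets are finitely generated. -/
theorem fg_taylorIdeal (R P : Type u) [CommRing R] [CommRing P] [Algebra R P] [Algebra.Smooth R P]
    (ε : P →ₐ[R] R) (s : Set P) (hs : s.Finite) : (taylorIdeal ε s).FG := by
  obtain ⟨R₁, P₁, _, _, _, _, e, ε₁, s₁, hN, -, hfs, -, hε, hs₁⟩ := exists_model R P ε hs.toFinset
  rw [Set.Finite.coe_toFinset] at hs₁
  rw [← hs₁, taylorIdeal_model e ε ε₁ hε]
  exact Ideal.FG.map (IsNoetherian.noetherian _) _

/-- An element with trivial Taylor expansion along the section vanishes near the section. -/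
theorem exists_annihilator (R P : Type u) [CommRing R] [CommRing P] [Algebra R P] [Algebra.Smooth R P]
    (ε : P →ₐ[R] R) (x : P) (hx : ∀ n : ℕ, x ∈ RingHom.ker ε ^ n) :
    ∃ i ∈ RingHom.ker ε, (1 - i) * x = 0 := by
  obtain ⟨R₁, P₁, _, _, _, _, e, ε₁, s₁, -, hN, hfs, hinj, hε, hs₁⟩ := exists_model R P ε {x}
  rw [Finset.coe_singleton] at hs₁
  obtain ⟨x₁, -, hx₁ : e (1 ⊗ₜ x₁) = x⟩ : x ∈ (fun p => e (1 ⊗ₜ p)) '' s₁ := by rw [hs₁]; rfl
  subst hx₁
  have hI := ker_eq_map_model e ε ε₁ hε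
  have hmem : ∀ n, x₁ ∈ RingHom.ker ε₁ ^ n := by
    intro n
    haveI := projective_quot_pow R₁ P₁ ε₁ n
    have h1 := hx n
    rw [hI, ← Ideal.map_pow] at h1
    have h2 : (1 : R) ⊗ₜ[R₁] x₁ ∈ (RingHom.ker ε₁ ^ n).map (includeRight : P₁ →ₐ[R₁] R ⊗[R₁] P₁).toRingHom := by
      rw [← Ideal.apply_mem_of_equiv_iff (f := e.toRingEquiv)]
      rw [← Ideal.map_map] at h1
      exact h1
    rw [← tmul_mk_eq_zero_iff] at h2
    refine Ideal.Quotient.eq_zero_iff_mem.mp ?_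
    refine includeRight_injective (A := R) (B := P₁ ⧸ RingHom.ker ε₁ ^ n) hinj ?_
    rw [map_zero, includeRight_apply]
    simpa using congrArg (TensorProduct.comm R₁ (P₁ ⧸ RingHom.ker ε₁ ^ n) R) h2
  obtain ⟨⟨r, hr⟩, hrx⟩ := ((RingHom.ker ε₁).mem_iInf_smul_pow_eq_bot_iff x₁).mp
    (Submodule.mem_iInf _ |>.mpr fun n => by simpa using hmem n)
  refine ⟨e (1 ⊗ₜ r), ?_, ?_⟩
  · rw [RingHom.mem_ker, hε, RingHom.mem_ker.mp hr, map_zero]
  · have : ((1 : R) ⊗ₜ[R₁] r) * (1 ⊗ₜ x₁) = 1 ⊗ₜ x₁ := by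
      rw [tmul_mul_tmul, one_mul]
      exact congrArg _ hrx
    rw [sub_mul, one_mul, ← map_mul, this, sub_self]

end Groth.Agent.H21Taylor
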