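import Groth.Agent.H3CAlg.FibreRegular
import Mathlib

/-!
# Fibrewise dense opens of flat morphisms with integral fibres are schematically dense
-/

set_option autoImplicit false
set_option linter.style.haveILetI false
set_option backward.isDefEq.respectTransparency false

universe u

open CategoryTheory CategoryTheory.Limits AlgebraicGeometry TensorProduct TopologicalSpace Opposite

namespace Groth.Agent.H21Taylor

/-- An element vanishing in the fibre at `p` is killed modulo `p` by an element outside `p`. -/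
theorem exists_smul_mem_of_fibre_zero {A B : Type u} [CommRing A] [CommRing B] [Algebra A B]
    (p : Ideal A) [p.IsPrime] (m : B) (h : (1 : p.ResidueField) ⊗ₜ[A] m = 0) :
    ∃ s ∉ p, s • m ∈ p • (⊤ : Submodule A B) := by
  let D := A ⧸ p
  let N := D ⊗[A] B
  have h1 : (1 : p.ResidueField) ⊗ₜ[D] ((1 : D) ⊗ₜ[A] m : N) = 0 := by
    refine (TensorProduct.AlgebraTensorModule.cancelBaseChange A D D p.ResidueField B).injective ?_
    rw [TensorProduct.AlgebraTensorModule.cancelBaseChange_tmul, one_smul, h, map_zero]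
  obtain ⟨⟨d, hd⟩, hdm⟩ := (IsLocalizedModule.eq_zero_iff (nonZeroDivisors D)
    (TensorProduct.mk D p.ResidueField N 1)).mp h1
  obtain ⟨s, rfl⟩ := Ideal.Quotient.mk_surjective d
  refine ⟨s, fun hs => nonZeroDivisors.ne_zero hd (Ideal.Quotient.eq_zero_iff_mem.mpr hs), ?_⟩
  have h2 : (1 : D) ⊗ₜ[A] (s • m) = 0 := by
    rw [tmul_smul]
    exact (algebraMap_smul D s ((1 : D) ⊗ₜ[A] m : N)).symm.trans hdm
  have h3 := congrArg (TensorProduct.quotTensorEquivQuotSMul B p) h2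
  rw [map_zero, TensorProduct.quotTensorEquivQuotSMul_mk_one_tmul] at h3
  exact (Submodule.Quotient.mk_eq_zero _).mp h3

/-- An element which is regular in every fibre of a flat algebra with fibres domains is regular. -/
theorem isSMulRegular_of_domain_fibres {A B : Type u} [CommRing A] [CommRing B] [Algebra A B]
    [Algebra.FinitePresentation A B] [Module.Flat A B] (a : B)
    (h : ∀ (p : Ideal A) [p.IsPrime], NoZeroDivisors (p.ResidueField ⊗[A] B))
    (ha : ∀ (p : Ideal A) [p.IsPrime], (1 : p.ResidueField) ⊗ₜ[A] a ≠ 0 ∨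
      Subsingleton (p.ResidueField ⊗[A] B)) :
    IsSMulRegular B a := by
  refine H3CAlg.FibreRegular.isSMulRegular_of_fibre (A := A) a fun p _ m hm => ?_
  refine exists_smul_mem_of_fibre_zero p m ?_
  have key : ∀ z ∈ p • (⊤ : Submodule A B), (1 : p.ResidueField) ⊗ₜ[A] z = 0 := by
    intro z hz
    refine Submodule.smul_induction_on hz ?_ ?_
    · intro r hr b _
      have : algebraMap A p.ResidueField r = 0 := Ideal.algebraMap_residueField_eq_zero.mpr hr
      rw [tmul_smul, smul_tmul', Algebra.smul_def, mul_one, this, zero_tmul]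
    · intro x y hx hy
      rw [tmul_add, hx, hy, add_zero]
  have h0 : (1 : p.ResidueField) ⊗ₜ[A] (a * m) = 0 := key _ hm
  rcases ha p with ha' | hs
  · haveI := h p
    refine (mul_eq_zero.mp (?_ : ((1 : p.ResidueField) ⊗ₜ[A] a) * (1 ⊗ₜ[A] m) = 0)).resolve_left ha'
    rw [Algebra.TensorProduct.tmul_mul_tmul, one_mul, h0]
  · exact Subsingleton.elim _ _

variable {X S : Scheme.{u}} (f : X ⟶ S)

/-- The fibres of affine opens of a geometrically integral morphism have no zero divisors. -/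
theorem noZeroDivisors_fibre [GeometricallyIntegral f] {U : S.Opens} (hU : IsAffineOpen U)
    {V : X.Opens} (hV : IsAffineOpen V) (e : V ≤ f ⁻¹ᵁ U) (p : Ideal Γ(S, U)) [p.IsPrime] :
    letI := (f.appLE U V e).hom.toAlgebra
    NoZeroDivisors (p.ResidueField ⊗[Γ(S, U)] Γ(X, V)) := by
  letI := (f.appLE U V e).hom.toAlgebra
  show NoZeroDivisors (p.ResidueField ⊗[Γ(S, U)] Γ(X, V))
  let K := p.ResidueField
  let y : Spec (CommRingCat.of K) ⟶ S :=
    Spec.map (CommRingCat.ofHom (algebraMap Γ(S, U) K)) ≫ hU.fromSpec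
  have hP : IsIntegral (pullback y f) :=
    GeometricallyIntegral.geometrically_isIntegral y _ _ (IsPullback.of_hasPullback y f).flip
  let m : Spec (CommRingCat.of (K ⊗[Γ(S, U)] Γ(X, V))) ⟶ pullback y f :=
    (pullbackSpecIso Γ(S, U) K Γ(X, V)).inv ≫
      pullback.map (Spec.map (CommRingCat.ofHom (algebraMap Γ(S, U) K)))
        (Spec.map (CommRingCat.ofHom (algebraMap Γ(S, U) Γ(X, V)))) y f (𝟙 _) hV.fromSpec hU.fromSpec
        (by rw [Category.id_comp]) (hU.SpecMap_appLE_fromSpec f hV e)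
  rcases subsingleton_or_nontrivial (K ⊗[Γ(S, U)] Γ(X, V)) with hs | hn
  · exact ⟨fun {a b} _ => Or.inl (Subsingleton.elim _ _)⟩
  haveI : Nonempty ↥(Spec (CommRingCat.of (K ⊗[Γ(S, U)] Γ(X, V)))) :=
    inferInstanceAs (Nonempty (PrimeSpectrum (K ⊗[Γ(S, U)] Γ(X, V))))
  haveI : IsIntegral (Spec (CommRingCat.of (K ⊗[Γ(S, U)] Γ(X, V)))) := isIntegral_of_isOpenImmersion m
  haveI := (affine_isIntegral_iff (CommRingCat.of (K ⊗[Γ(S, U)] Γ(X, V)))).mp ‹_›
  infer_instance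

/-- A section which does not vanish at some point over `p` is nonzero in the fibre at `p`. -/
theorem tmul_ne_zero_of_not_mem {A B : Type u} [CommRing A] [CommRing B] [Algebra A B]
    (p : Ideal A) [p.IsPrime] (a : B) (q : Ideal B) [q.IsPrime] (hq : q.comap (algebraMap A B) = p)
    (ha : a ∉ q) : (1 : p.ResidueField) ⊗ₜ[A] a ≠ 0 := by
  intro h
  let φ : p.ResidueField ⊗[A] B →ₐ[A] q.ResidueField :=
    Algebra.TensorProduct.lift (Ideal.ResidueField.mapₐ p q (Algebra.ofId A B) hq.symm)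
      (IsScalarTower.toAlgHom A B q.ResidueField) fun _ _ => Commute.all _ _
  have h1 := congrArg φ h
  simp only [φ, Algebra.TensorProduct.lift_tmul, map_one, one_mul, map_zero,
    IsScalarTower.toAlgHom_apply] at h1
  exact ha (Ideal.algebraMap_residueField_eq_zero.mp h1)

variable [LocallyOfFinitePresentation f] [Flat f] [GeometricallyIntegral f]

/-- A section vanishing on a fibrewise dense open vanishes. -/
theorem eq_zero_of_dense (Ω : X.Opens) (hΩ : ∀ s : S, ∃ x ∈ Ω, f x = s) {V : X.Opens}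
    (h : Γ(X, V)) (hh : X.presheaf.map (homOfLE (inf_le_right : Ω ⊓ V ≤ V)).op h = 0) : h = 0 := by
  refine X.IsSheaf.section_ext fun x hx => ?_
  obtain ⟨_, ⟨U, hU, rfl⟩, hxU, -⟩ := S.isBasis_affineOpens.exists_subset_of_mem_open
    (Set.mem_univ (f x)) isOpen_univ
  obtain ⟨_, ⟨V₁, hV₁, rfl⟩, hxV₁, hle⟩ := X.isBasis_affineOpens.exists_subset_of_mem_open
    (show x ∈ (V ⊓ f ⁻¹ᵁ U : X.Opens) from ⟨hx, hxU⟩) (V ⊓ f ⁻¹ᵁ U).isOpen
  have hV₁V : V₁ ≤ V := fun z hz => (hle hz).1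
  have e₁ : V₁ ≤ f ⁻¹ᵁ U := fun z hz => (hle hz).2
  -- the fibre through `x` meets `Ω ⊓ V₁`
  have hirr : IsPreirreducible (f ⁻¹' {f x}) := by
    rw [← f.range_fiberι (f x), ← Set.image_univ]
    exact (IrreducibleSpace.isIrreducible_univ _).isPreirreducible.image _
      (f.fiberι (f x)).continuous.continuousOn
  obtain ⟨y₀, hy₀Ω, hy₀⟩ := hΩ (f x)
  obtain ⟨y, hyfib, hyV, hyΩ⟩ := hirr V₁ Ω V₁.isOpen Ω.isOpen ⟨x, rfl, hxV₁⟩ ⟨y₀, hy₀, hy₀Ω⟩
  obtain ⟨v, hv, hyv⟩ := hV₁.exists_basicOpen_le (V := Ω) ⟨y, hyΩ⟩ hyV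
  -- shrink the base
  let I : S.Opens := ⟨f '' (X.basicOpen v : Set X), f.isOpenMap _ (X.basicOpen v).isOpen⟩
  have hxI : f x ∈ I := ⟨y, hyv, hyfib⟩
  obtain ⟨a, ha, hxa⟩ := hU.exists_basicOpen_le (V := I) ⟨f x, hxI⟩ hxU
  have hV₂eq : X.basicOpen (f.appLE U V₁ e₁ a) = V₁ ⊓ f ⁻¹ᵁ S.basicOpen a :=
    Scheme.basicOpen_appLE f V₁ U e₁ a
  let V₂ := X.basicOpen (f.appLE U V₁ e₁ a)
  have hV₂ : IsAffineOpen V₂ := hV₁.basicOpen _
  have hV₂₁ : V₂ ≤ V₁ := X.basicOpen_le _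
  have e₂ : V₂ ≤ f ⁻¹ᵁ S.basicOpen a := fun z hz => ((hV₂eq.le hz) : _ ∧ _).2
  have hxV₂ : x ∈ V₂ := hV₂eq.ge ⟨hxV₁, hxa⟩
  refine ⟨V₂, hV₂₁.trans hV₁V, hxV₂, ?_⟩
  rw [map_zero]
  let v₂ : Γ(X, V₂) := X.presheaf.map (homOfLE hV₂₁).op v
  letI := (f.appLE (S.basicOpen a) V₂ e₂).hom.toAlgebra
  haveI : Module.Flat Γ(S, S.basicOpen a) Γ(X, V₂) :=
    Scheme.Hom.flat_appLE f (hU.basicOpen a) hV₂ e₂
  haveI : Algebra.FinitePresentation Γ(S, S.basicOpen a) Γ(X, V₂) :=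
    LocallyOfFinitePresentation.finitePresentation_appLE f (hU.basicOpen a) hV₂ e₂
  have hreg : IsSMulRegular Γ(X, V₂) v₂ := by
    refine isSMulRegular_of_domain_fibres v₂
      (fun p _ => noZeroDivisors_fibre f (hU.basicOpen a) hV₂ e₂ p) fun p _ => Or.inl ?_
    let t := (hU.basicOpen a).fromSpec ⟨p, inferInstance⟩
    have ht : t ∈ S.basicOpen a :=
      (hU.basicOpen a).range_fromSpec.subset ⟨_, rfl⟩
    obtain ⟨z, hzv, hzt⟩ := ha ht
    have hzV₂ : z ∈ V₂ := hV₂eq.ge ⟨X.basicOpen_le v hzv, show f z ∈ S.basicOpen a from hzt ▸ ht⟩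
    refine tmul_ne_zero_of_not_mem p v₂ (hV₂.primeIdealOf ⟨z, hzV₂⟩).asIdeal ?_ ?_
    · have h1 : PrimeSpectrum.comap (f.appLE (S.basicOpen a) V₂ e₂).hom (hV₂.primeIdealOf ⟨z, hzV₂⟩) =
          ⟨p, inferInstance⟩ := by
        refine (hU.basicOpen a).fromSpec.isOpenEmbedding.injective ?_
        show (Spec.map (f.appLE (S.basicOpen a) V₂ e₂) ≫ (hU.basicOpen a).fromSpec) _ = t
        rw [(hU.basicOpen a).SpecMap_appLE_fromSpec f hV₂ e₂, Scheme.Hom.comp_apply,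
          hV₂.fromSpec_primeIdealOf]
        exact hzt
      exact congrArg PrimeSpectrum.asIdeal h1
    · intro hmem
      have hz₂ : z ∈ X.basicOpen v₂ := by
        rw [Scheme.basicOpen_res]
        exact ⟨hzV₂, hzv⟩
      rw [← hV₂.fromSpec_image_basicOpen] at hz₂
      obtain ⟨q, hq, hqz⟩ := hz₂
      have hq' : q = hV₂.primeIdealOf ⟨z, hzV₂⟩ :=
        hV₂.fromSpec.isOpenEmbedding.injective (hqz.trans (hV₂.fromSpec_primeIdealOf ⟨z, hzV₂⟩).symm)
      subst hq'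
      exact hq hmem
  -- `h` dies after localizing at `v₂`
  haveI := hV₂.isLocalization_basicOpen v₂
  have hΩ₂ : X.basicOpen v₂ ≤ Ω ⊓ V := by
    rw [Scheme.basicOpen_res]
    exact fun z hz => ⟨hv hz.2, hV₁V (hV₂₁ hz.1)⟩
  have h0 : algebraMap Γ(X, V₂) Γ(X, X.basicOpen v₂)
      (X.presheaf.map (homOfLE (hV₂₁.trans hV₁V)).op h) = 0 := by
    show X.presheaf.map _ (X.presheaf.map _ h) = 0
    rw [← ConcreteCategory.comp_apply, ← Functor.map_comp,
      Subsingleton.elim (_ ≫ _) ((homOfLE (inf_le_right : Ω ⊓ V ≤ V)).op ≫ (homOfLE hΩ₂).op),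
      Functor.map_comp, ConcreteCategory.comp_apply, hh, map_zero]
  obtain ⟨⟨_, n, rfl⟩, hn⟩ := (IsLocalization.map_eq_zero_iff (Submonoid.powers v₂) _ _).mp h0
  exact (hreg.pow n) (by simpa [smul_eq_mul] using hn)

/-- A closed subscheme containing a fibrewise dense open is everything. -/
theorem isIso_of_factor_dense {Y : Scheme.{u}} (j : Y ⟶ X) [IsClosedImmersion j] (Ω : X.Opens)
    (hΩ : ∀ s : S, ∃ x ∈ Ω, f x = s) (l : (Ω : Scheme.{u}) ⟶ Y) (hl : l ≫ j = Ω.ι) : IsIso j := by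
  rw [IsClosedImmersion.isIso_iff_ker_eq_bot]
  refine le_bot_iff.mp fun V a ha => ?_
  rw [Scheme.Hom.ker_apply, RingHom.mem_ker] at ha
  rw [Scheme.IdealSheafData.ideal_bot, Pi.bot_apply, Ideal.mem_bot]
  refine eq_zero_of_dense f Ω hΩ a ?_
  have h1 : Ω.ι.app V.1 a = 0 := by
    rw [← hl, Scheme.Hom.comp_app, ConcreteCategory.comp_apply, ha, map_zero]
  rw [Scheme.Opens.ι_app] at h1
  have hle : (Ω ⊓ V.1 : X.Opens) ≤ Ω.ι ''ᵁ (Ω.ι ⁻¹ᵁ V.1) := fun z hz => ⟨⟨z, hz.1⟩, hz.2, rfl⟩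
  have h2 := congrArg (X.presheaf.map (homOfLE hle).op) h1
  erw [map_zero, ← ConcreteCategory.comp_apply, ← Functor.map_comp] at h2
  exact h2

end Groth.Agent.H21Taylor
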