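import Mathlib

/-!
# Truncations of a formally smooth algebra along a section are projective
-/

set_option autoImplicit false
set_option linter.style.haveILetI false
set_option maxHeartbeats 1000000

universe u

open MvPolynomial

namespace Groth.Agent.H21Taylor

/-- Truncated polynomial rings are projective modules. -/
theorem projective_truncPoly (R : Type u) [CommRing R] (ι : Type u) (n : ℕ) :
    Module.Projective R (MvPolynomial ι R ⧸ idealOfVars ι R ^ n) := by
  classical
  let T : MvPolynomial ι R →ₗ[R] MvPolynomial ι R :=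
    ∑ i ∈ Finset.range n, homogeneousComponent i
  have hT : ∀ F ∈ idealOfVars ι R ^ n, T F = 0 := by
    intro F hF
    rw [mem_pow_idealOfVars_iff] at hF
    simp only [T, LinearMap.sum_apply]
    refine Finset.sum_eq_zero fun i hi => ?_
    refine homogeneousComponent_eq_zero' i F fun d hd h => ?_
    have := hF d hd
    rw [Finset.mem_range] at hi
    omega
  have hT' : ∀ F, F - T F ∈ idealOfVars ι R ^ n := by
    intro F
    rw [mem_pow_idealOfVars_iff]
    intro d hd
    by_contra hlt
    refine mem_support_iff.mp hd ?_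
    simp [T, coeff_sum, coeff_homogeneousComponent, Finset.sum_ite_eq, not_le.mp hlt]
  let N : Submodule R (MvPolynomial ι R) := Submodule.restrictScalars R (idealOfVars ι R ^ n)
  let sec : (MvPolynomial ι R ⧸ idealOfVars ι R ^ n) →ₗ[R] MvPolynomial ι R :=
    (N.liftQ T fun F hF => hT F hF).comp
      (Submodule.Quotient.restrictScalarsEquiv R (idealOfVars ι R ^ n)).symm.toLinearMap
  refine Module.Projective.of_split sec (Ideal.Quotient.mkₐ R _).toLinearMap ?_
  ext x
  obtain ⟨F, rfl⟩ := Ideal.Quotient.mk_surjective x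
  change Ideal.Quotient.mk _ (T F) = Ideal.Quotient.mk _ F
  exact (Ideal.Quotient.eq.mpr (hT' F)).symm

theorem projective_of_retract {R A B : Type u} [CommRing R] [CommRing A] [CommRing B] [Algebra R A]
    [Algebra R B] (hA : Module.Projective R A) (s : B →ₐ[R] A) (p : A →ₐ[R] B) (h : ∀ b, p (s b) = b) :
    Module.Projective R B :=
  Module.Projective.of_split s.toLinearMap p.toLinearMap (LinearMap.ext h)

/-- The truncations of a formally smooth algebra along a section are projective over the base. -/
theorem projective_quot_pow (R P : Type u) [CommRing R] [CommRing P] [Algebra R P]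
    [Algebra.FormallySmooth R P] (ε : P →ₐ[R] R) (n : ℕ) :
    Module.Projective R (P ⧸ RingHom.ker ε ^ n) := by
  classical
  set I := RingHom.ker ε with hI
  rcases n with _ | m
  · haveI : Subsingleton (P ⧸ I ^ 0) := by
      rw [pow_zero, Ideal.one_eq_top]
      exact Ideal.Quotient.subsingleton_iff.mpr rfl
    exact Module.Projective.of_free
  let Q := MvPolynomial P R ⧸ idealOfVars P R ^ (m + 1)
  let π₀ : MvPolynomial P R →ₐ[R] P ⧸ I ^ (m + 1) :=
    (Ideal.Quotient.mkₐ R _).comp (aeval fun p : P => p - algebraMap R P (ε p))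
  have hX : ∀ p : P, p - algebraMap R P (ε p) ∈ I := fun p => by simp [hI, RingHom.mem_ker]
  have hπ₀ : ∀ F ∈ idealOfVars P R ^ (m + 1), π₀ F = 0 := by
    have : (idealOfVars P R ^ (m + 1)).map (aeval fun p : P => p - algebraMap R P (ε p)).toRingHom ≤ I ^ (m + 1) := by
      rw [Ideal.map_pow]
      refine Ideal.pow_right_mono ?_ _
      rw [idealOfVars, Ideal.map_span, Ideal.span_le]
      rintro _ ⟨_, ⟨p, rfl⟩, rfl⟩
      simpa using hX p
    intro F hF
    exact Ideal.Quotient.eq_zero_iff_mem.mpr (this (Ideal.mem_map_of_mem _ hF))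
  let π : Q →ₐ[R] P ⧸ I ^ (m + 1) := Ideal.Quotient.liftₐ _ π₀ hπ₀
  have hπ : Function.Surjective π := by
    intro z
    obtain ⟨p, rfl⟩ := Ideal.Quotient.mk_surjective z
    refine ⟨Ideal.Quotient.mk _ (X p + C (ε p)), ?_⟩
    change π₀ (X p + C (ε p)) = _
    simp only [π₀, AlgHom.comp_apply, map_add, aeval_X, aeval_C, Ideal.Quotient.mkₐ_eq_mk]
    rw [← map_add, sub_add_cancel]
  -- the two augmentations
  let augQ : Q →ₐ[R] R := Ideal.Quotient.liftₐ _ (aeval fun _ : P => (0 : R)) (by
    intro F hF
    have h1 := Ideal.pow_le_self (Nat.succ_ne_zero m) hF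
    have : idealOfVars P R ≤ RingHom.ker (aeval fun _ : P => (0 : R)) := by
      rw [idealOfVars, Ideal.span_le]
      rintro _ ⟨p, rfl⟩
      simp [RingHom.mem_ker]
    exact this h1)
  let augP : (P ⧸ I ^ (m + 1)) →ₐ[R] R := Ideal.Quotient.liftₐ _ ε fun p hp => by
    exact Ideal.pow_le_self (Nat.succ_ne_zero m) hp
  have haug : augP.comp π = augQ := by
    refine Ideal.Quotient.algHom_ext R ?_
    refine MvPolynomial.algHom_ext fun p => ?_
    change ε ((aeval fun q : P => q - algebraMap R P (ε q)) (X p)) = aeval (fun _ : P => (0 : R)) (X p)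
    rw [aeval_X, aeval_X, map_sub, AlgHom.commutes, Algebra.algebraMap_self, RingHom.id_apply, sub_self]
  have hker : RingHom.ker augQ ≤ (idealOfVars P R).map (Ideal.Quotient.mk _) := by
    intro z hz
    obtain ⟨F, rfl⟩ := Ideal.Quotient.mk_surjective z
    refine Ideal.mem_map_of_mem _ ?_
    rw [← pow_one (idealOfVars P R), mem_pow_idealOfVars_iff]
    intro d hd
    by_contra h0
    have hd0 : d = 0 := by
      rw [← Finsupp.degree_eq_zero_iff]
      omega
    subst hd0
    have hz' : constantCoeff F = 0 := by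
      have : aeval (fun _ : P => (0 : R)) F = 0 := hz
      rwa [show (fun _ : P => (0 : R)) = 0 from rfl, aeval_zero, Algebra.algebraMap_self, RingHom.id_apply] at this
    exact mem_support_iff.mp hd hz'
  have hnil : IsNilpotent (RingHom.ker π) := by
    refine ⟨m + 1, le_bot_iff.mp ?_⟩
    calc RingHom.ker π ^ (m + 1) ≤ ((idealOfVars P R).map (Ideal.Quotient.mk _)) ^ (m + 1) := by
          refine Ideal.pow_right_mono (le_trans (fun z hz => ?_) hker) _
          rw [RingHom.mem_ker] at hz ⊢
          rw [← haug, AlgHom.comp_apply, hz, map_zero]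
      _ ≤ ⊥ := by rw [← Ideal.map_pow, Ideal.map_quotient_self]
  let σ : P →ₐ[R] Q := Algebra.FormallySmooth.liftOfSurjective (Ideal.Quotient.mkₐ R (I ^ (m + 1))) π hπ hnil
  have hσ : ∀ p, π (σ p) = Ideal.Quotient.mk _ p :=
    Algebra.FormallySmooth.liftOfSurjective_apply _ π hπ hnil
  have hσI : I.map σ.toRingHom ≤ (idealOfVars P R).map (Ideal.Quotient.mk _) := by
    rw [Ideal.map_le_iff_le_comap]
    intro p hp
    refine hker ?_
    rw [RingHom.mem_ker, ← haug, AlgHom.comp_apply]
    change augP (π (σ p)) = 0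
    rw [hσ]
    exact hp
  let σ' : (P ⧸ I ^ (m + 1)) →ₐ[R] Q := Ideal.Quotient.liftₐ _ σ fun p hp => by
    have h1 : σ p ∈ (I ^ (m + 1)).map σ.toRingHom := Ideal.mem_map_of_mem σ.toRingHom hp
    rw [Ideal.map_pow] at h1
    have h2 := Ideal.pow_right_mono hσI (m + 1) h1
    rw [← Ideal.map_pow, Ideal.map_quotient_self] at h2
    exact h2
  refine projective_of_retract (projective_truncPoly R P (m + 1)) σ' π fun z => ?_
  obtain ⟨p, rfl⟩ := Ideal.Quotient.mk_surjective z
  exact hσ p

end Groth.Agent.H21Taylor
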