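import Groth.Agent.H21Taylor.Weil
import Groth.Agent.H13AlgSp.SmoothSection
import Mathlib

/-!
# The locus where a closed subscheme contains a smooth geometrically integral scheme is closed
-/

set_option autoImplicit false
set_option linter.style.haveILetI false
set_option backward.isDefEq.respectTransparency false

universe u

open CategoryTheory CategoryTheory.Limits AlgebraicGeometry TopologicalSpace

namespace Groth.Agent.H21Taylor

variable {S X Y : Scheme.{u}} {f : X ⟶ S} {j : Y ⟶ X}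

/-- An affine open of a smooth scheme over an affine scheme containing a section gives a universal ideal. -/
theorem exists_hasUniv_of_opens [Smooth f] [GeometricallyIntegral f] [IsClosedImmersion j]
    {A₀ : CommRingCat.{u}} (σ₀ : Spec A₀ ⟶ S) (sec : Spec A₀ ⟶ pullback f σ₀)
    (hsec : sec ≫ pullback.snd f σ₀ = 𝟙 _) {D : (Spec A₀).Opens} (hD : IsAffineOpen D)
    {W : (pullback f σ₀).Opens} (hW : IsAffineOpen W) (e₁ : W ≤ pullback.snd f σ₀ ⁻¹ᵁ D)
    (e₂ : D ≤ sec ⁻¹ᵁ W) :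
    ∃ 𝔞 : Ideal Γ(Spec A₀, D), H19Grp.HasUniv f j (hD.fromSpec ≫ σ₀) 𝔞 ∧
      (LocallyOfFinitePresentation j → 𝔞.FG) := by
  let π := pullback.snd f σ₀
  haveI : Smooth π := MorphismProperty.pullback_snd (P := @Smooth) _ _ inferInstance
  letI := (π.appLE D W e₁).hom.toAlgebra
  haveI : Algebra.Smooth Γ(Spec A₀, D) Γ(pullback f σ₀, W) :=
    RingHom.smooth_algebraMap.mp (HasRingHomProperty.appLE (P := @Smooth) π inferInstance ⟨D, hD⟩ ⟨W, hW⟩ e₁)
  let σ := hD.fromSpec ≫ σ₀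
  let ρ : pullback f σ ⟶ pullback f σ₀ := pullback.map f σ f σ₀ (𝟙 _) hD.fromSpec (𝟙 _) (by simp) (by simp [σ])
  haveI : IsOpenImmersion ρ := inferInstance
  have hA := hD.SpecMap_appLE_fromSpec π hW e₁
  let m : Spec Γ(pullback f σ₀, W) ⟶ pullback f σ :=
    pullback.lift (hW.fromSpec ≫ pullback.fst f σ₀) (Spec.map (π.appLE D W e₁)) (by
      rw [Category.assoc, pullback.condition, ← Category.assoc, ← hA, Category.assoc])
  have hmρ : m ≫ ρ = hW.fromSpec := by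
    apply pullback.hom_ext
    · simp [m, ρ]
    · simp only [m, ρ, Category.assoc, pullback.lift_snd, pullback.lift_snd_assoc]
      exact hA
  haveI : IsOpenImmersion (m ≫ ρ) := hmρ ▸ inferInstance
  haveI : IsOpenImmersion m := IsOpenImmersion.of_comp m ρ
  have hS := hW.SpecMap_appLE_fromSpec sec hD e₂
  have hid : π.appLE D W e₁ ≫ sec.appLE W D e₂ = 𝟙 _ := by
    apply Spec.map_injective
    rw [← cancel_mono hD.fromSpec, Spec.map_comp, Category.assoc, hA, ← Category.assoc, hS,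
      Category.assoc, hsec, Category.comp_id, Spec.map_id, Category.id_comp]
  exact exists_hasUniv_of_section (A := Γ(Spec A₀, D)) σ Γ(pullback f σ₀, W) m (pullback.lift_snd _ _ _)
    ⟨(sec.appLE W D e₂).hom, fun r => ConcreteCategory.congr_hom hid r⟩

/-- Étale-locally on the base there are universal ideals. -/
theorem exists_etale_hasUniv [Smooth f] [GeometricallyIntegral f] [IsClosedImmersion j]
    (U : S.Opens) (t : S) (ht : t ∈ U) :
    ∃ (A : CommRingCat.{u}) (σ : Spec A ⟶ S) (𝔞 : Ideal A), Etale σ ∧ Set.range σ ⊆ U ∧ t ∈ Set.range σ ∧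
      H19Grp.HasUniv f j σ 𝔞 ∧ (LocallyOfFinitePresentation j → 𝔞.FG) := by
  obtain ⟨x, rfl⟩ := f.surjective t
  obtain ⟨U', e, r, he, hre, q, hq⟩ := H13AlgSp.SmoothSection.exists_etale_section f x
  obtain ⟨_, ⟨U₀, hU₀, rfl⟩, hqU₀, hU₀U⟩ := U'.isBasis_affineOpens.exists_subset_of_mem_open
    (show q ∈ e ⁻¹ᵁ U from show e q ∈ U from hq ▸ ht) (e ⁻¹ᵁ U).isOpen
  let σ₀ := hU₀.fromSpec ≫ e
  let sec : Spec Γ(U', U₀) ⟶ pullback f σ₀ := pullback.lift (hU₀.fromSpec ≫ r) (𝟙 _)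
    (by rw [Category.assoc, hre, Category.id_comp])
  let p := hU₀.primeIdealOf ⟨q, hqU₀⟩
  obtain ⟨_, ⟨W₀, hW₀, rfl⟩, hpW₀, -⟩ := (pullback f σ₀).isBasis_affineOpens.exists_subset_of_mem_open
    (Set.mem_univ (sec p)) isOpen_univ
  obtain ⟨a, ha, hpa⟩ := (isAffineOpen_top (Spec Γ(U', U₀))).exists_basicOpen_le
    (V := sec ⁻¹ᵁ W₀) ⟨p, hpW₀⟩ trivial
  let π := pullback.snd f σ₀
  have e₀ : W₀ ≤ π ⁻¹ᵁ ⊤ := fun _ _ => trivial
  have hWeq := Scheme.basicOpen_appLE π W₀ ⊤ e₀ a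
  have hW := hW₀.basicOpen (π.appLE ⊤ W₀ e₀ a)
  have hD := (isAffineOpen_top (Spec Γ(U', U₀))).basicOpen a
  have hsec : sec ≫ π = 𝟙 _ := pullback.lift_snd _ _ _
  obtain ⟨𝔞, h𝔞, hfg⟩ := exists_hasUniv_of_opens (j := j) σ₀ sec hsec hD hW
    (fun z hz => (hWeq.le hz).2) (fun z hz => hWeq.ge ⟨ha hz, by
      show π (sec z) ∈ (Spec Γ(U', U₀)).basicOpen a
      rw [← Scheme.Hom.comp_apply, hsec]; exact hz⟩)
  refine ⟨_, hD.fromSpec ≫ σ₀, 𝔞, inferInstance, ?_, ?_, h𝔞, hfg⟩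
  · rintro _ ⟨z, rfl⟩
    exact hU₀U (hU₀.range_fromSpec.subset ⟨hD.fromSpec z, rfl⟩)
  · obtain ⟨z, hz⟩ : p ∈ Set.range hD.fromSpec := hD.range_fromSpec.superset hpa
    refine ⟨z, ?_⟩
    rw [Scheme.Hom.comp_apply, hz, Scheme.Hom.comp_apply, hU₀.fromSpec_primeIdealOf]
    exact hq

/-- Zariski-locally on the base there are universal ideals. -/
theorem exists_hasUniv_of_smooth [Smooth f] [GeometricallyIntegral f] [IsClosedImmersion j] (s : S) :
    ∃ (A : CommRingCat.{u}) (σ : Spec A ⟶ S) (𝔞 : Ideal A), IsOpenImmersion σ ∧ s ∈ Set.range σ ∧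
      H19Grp.HasUniv f j σ 𝔞 ∧ (LocallyOfFinitePresentation j → 𝔞.FG) := by
  obtain ⟨_, ⟨U, hU, rfl⟩, hsU, -⟩ := S.isBasis_affineOpens.exists_subset_of_mem_open
    (Set.mem_univ s) isOpen_univ
  choose A' σ' 𝔞' hσ hσU hσt hu hfg using fun t : U => exists_etale_hasUniv (f := f) (j := j) U t.1 t.2
  haveI := hσ
  obtain ⟨T, hT⟩ := hU.isCompact.elim_finite_subcover (fun t : U => Set.range (σ' t))
    (fun t => (σ' t).isOpenMap.isOpen_range) (fun t ht => Set.mem_iUnion.mpr ⟨⟨t, ht⟩, hσt ⟨t, ht⟩⟩)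
  let pt : Fin T.card → U := fun k => (T.equivFin.symm k).1
  let φ (k : Fin T.card) : Γ(S, U) ⟶ A' (pt k) :=
    Spec.preimage (IsOpenImmersion.lift hU.fromSpec (σ' (pt k))
      (by rw [IsAffineOpen.range_fromSpec]; exact hσU _))
  have hφ : ∀ k, Spec.map (φ k) ≫ hU.fromSpec = σ' (pt k) := fun k => by
    rw [Spec.map_preimage, IsOpenImmersion.lift_fac]
  letI : ∀ k, Algebra Γ(S, U) (A' (pt k)) := fun k => (φ k).hom.toAlgebra
  haveI : ∀ k, Module.Flat Γ(S, U) (A' (pt k)) := fun k => by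
    haveI : Etale (Spec.map (φ k) ≫ hU.fromSpec) := (hφ k).symm ▸ hσ _
    haveI : Etale (Spec.map (φ k)) := Etale.of_comp (Spec.map (φ k)) hU.fromSpec
    exact (HasRingHomProperty.Spec_iff (P := @Flat) (φ := φ k)).mp inferInstance
  have hsurj : ∀ p : PrimeSpectrum Γ(S, U), ∃ k, ∃ q : PrimeSpectrum (A' (pt k)),
      q.comap (algebraMap Γ(S, U) (A' (pt k))) = p := by
    intro p
    obtain ⟨t, htT, q, hq⟩ := Set.mem_iUnion₂.mp (hT (hU.range_fromSpec.subset ⟨p, rfl⟩))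
    obtain ⟨k, rfl⟩ : ∃ k, pt k = t := ⟨T.equivFin ⟨t, htT⟩, by simp [pt]⟩
    refine ⟨k, q, hU.fromSpec.isOpenEmbedding.injective ?_⟩
    rw [← hq, ← hφ k, Scheme.Hom.comp_apply]
    rfl
  have h' : ∀ k, H19Grp.HasUniv f j (Spec.map (CommRingCat.ofHom (algebraMap Γ(S, U) (A' (pt k)))) ≫ hU.fromSpec)
      (𝔞' (pt k)) := fun k => by
    show H19Grp.HasUniv f j (Spec.map (φ k) ≫ hU.fromSpec) (𝔞' (pt k))
    rw [hφ]
    exact hu _
  obtain ⟨𝔞, h𝔞⟩ := H19Grp.hasUniv_of_family (A := Γ(S, U)) hU.fromSpec (fun k => A' (pt k)) hsurj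
    (fun k => 𝔞' (pt k)) h'
  refine ⟨Γ(S, U), hU.fromSpec, 𝔞, inferInstance, hU.range_fromSpec.superset hsU, h𝔞, fun hj => ?_⟩
  refine H19Grp.fg_of_forall_map (fun k => A' (pt k)) hsurj fun k => ?_
  rw [show 𝔞.map (algebraMap Γ(S, U) (A' (pt k))) = 𝔞' (pt k) from
    (h𝔞.map (CommRingCat.ofHom (algebraMap Γ(S, U) (A' (pt k))))).unique (h' k)]
  exact hfg _ hj

theorem hasUnivLocally_of_smooth (f : X ⟶ S) (j : Y ⟶ X) [Smooth f] [GeometricallyIntegral f]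
    [IsClosedImmersion j] : H19Grp.HasUnivLocally f j := fun s => by
  obtain ⟨A, σ, 𝔞, hσ, hs, h, -⟩ := exists_hasUniv_of_smooth (f := f) (j := j) s
  exact ⟨A, σ, 𝔞, hσ, hs, h⟩

/-- The universal closed subscheme, with finite presentation. -/
theorem exists_closed_contains (f : X ⟶ S) (j : Y ⟶ X) [Smooth f] [GeometricallyIntegral f]
    [IsClosedImmersion j] :
    ∃ (T : Scheme.{u}) (t : T ⟶ S), IsClosedImmersion t ∧
      (∀ (S' : Scheme.{u}) (g : S' ⟶ S), (∃ g' : S' ⟶ T, g' ≫ t = g) ↔ H19Grp.Contains f j g) ∧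
      (LocallyOfFinitePresentation j → LocallyOfFinitePresentation t) := by
  have hloc := hasUnivLocally_of_smooth f j
  refine ⟨_, (H19Grp.univIdeal hloc).subschemeι, inferInstance,
    fun S' g => H19Grp.contains_iff_factors hloc g, fun hj => ?_⟩
  refine H19Grp.locallyOfFinitePresentation_subschemeι _ fun W => H19Grp.fg_univIdeal hloc (fun s => ?_) W
  obtain ⟨A, σ, 𝔞, hσ, hs, h, hfg⟩ := exists_hasUniv_of_smooth (f := f) (j := j) s
  exact ⟨A, σ, 𝔞, hσ, hs, h, hfg hj⟩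

end Groth.Agent.H21Taylor
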