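import Groth.Agent.H19Grp.PiClosedGlobal
import Mathlib

/-!
# Gluing universal ideals for monomorphisms
-/

set_option autoImplicit false
set_option linter.style.haveILetI false
set_option backward.isDefEq.respectTransparency false

universe u v

open CategoryTheory CategoryTheory.Limits AlgebraicGeometry TensorProduct

namespace Groth.Agent.H21Taylor.MonoGlue

open H19Grp (Contains HasUniv HasUnivLocally exists_hasUniv_basicOpen exists_comap_basicOpen_eq
  flat_section_basicOpen eq_zero_of_forall_tmul fg_of_forall_map le_ker_of_forall_appLE)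
open H19Grp.HasUniv

variable {S Z Y : Scheme.{u}} {f : Z ⟶ S} {j : Y ⟶ Z}

/-- `Contains` is Zariski local for monomorphisms. -/
lemma contains_of_open_family [Mono j] {S' : Scheme.{u}} (g : S' ⟶ S) {ι : Type v}
    {W : ι → Scheme.{u}} (q : ∀ i, W i ⟶ S') [∀ i, IsOpenImmersion (q i)]
    (hq : ∀ x, ∃ i, x ∈ Set.range (q i)) (H : ∀ i, Contains f j (q i ≫ g)) : Contains f j g := by
  rw [H19Grp.contains_iff_isIso]
  let c : ∀ i, pullback (pullback.snd f g) (q i) ⟶ pullback f g := fun i => pullback.fst _ _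
  let 𝒰 : Scheme.OpenCover.{v} (pullback f g) := Scheme.Cover.mkOfCovers ι _ c (fun z => by
    obtain ⟨i, w, hw⟩ := hq (pullback.snd f g z)
    obtain ⟨t, ht, -⟩ := Scheme.Pullback.exists_preimage_pullback
      (f := pullback.snd f g) (g := q i) z w hw.symm
    exact ⟨i, t, ht⟩) inferInstance
  refine IsZariskiLocalAtTarget.of_openCover (P := MorphismProperty.isomorphisms Scheme.{u}) 𝒰 fun i => ?_
  obtain ⟨l, hl⟩ := H i
  let j' := pullback.snd j (pullback.fst f g)
  show IsIso (pullback.snd j' (c i))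
  let s : pullback (pullback.snd f g) (q i) ⟶ pullback j (pullback.fst f g) :=
    pullback.lift ((pullbackLeftPullbackSndIso f g (q i)).hom ≫ l) (c i)
      (by rw [Category.assoc, hl]; exact pullbackLeftPullbackSndIso_hom_fst f g (q i))
  refine ⟨pullback.lift s (𝟙 _) (by rw [Category.id_comp]; exact pullback.lift_snd _ _ _), ?_,
    pullback.lift_snd _ _ _⟩
  rw [← cancel_mono (pullback.snd j' (c i)), Category.assoc, pullback.lift_snd, Category.id_comp,
    Category.comp_id]

/-- Universal ideals descend along flat jointly surjective finite families. -/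
theorem hasUniv_of_family [Mono j] {A : Type u} [CommRing A]
    (σ : Spec (CommRingCat.of A) ⟶ S) {ι : Type} [Finite ι] (A' : ι → Type u)
    [∀ i, CommRing (A' i)] [∀ i, Algebra A (A' i)] [∀ i, Module.Flat A (A' i)]
    [∀ i, IsOpenImmersion (Spec.map (CommRingCat.ofHom (algebraMap A (A' i))))]
    (hsurj : ∀ p : PrimeSpectrum A, ∃ i, ∃ q : PrimeSpectrum (A' i), q.comap (algebraMap A (A' i)) = p)
    (𝔞' : ∀ i, Ideal (A' i))
    (h : ∀ i, HasUniv f j (Spec.map (CommRingCat.ofHom (algebraMap A (A' i))) ≫ σ) (𝔞' i)) :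
    ∃ 𝔞 : Ideal A, HasUniv f j σ 𝔞 := by
  classical
  haveI := Fintype.ofFinite ι
  let 𝔞 : Ideal A := ⨅ i, (𝔞' i).comap (algebraMap A (A' i))
  -- a test point `Spec C → Spec A` with `P` makes `𝔞' i` vanish on `A' i ⊗ C`
  have key : ∀ (C : Type u) [CommRing C] [Algebra A C],
      Contains f j (Spec.map (CommRingCat.ofHom (algebraMap A C)) ≫ σ) →
      ∀ i, ∀ x ∈ 𝔞' i, x ⊗ₜ[A] (1 : C) = 0 := by
    intro C _ _ hP
    intro i x hx
    let ψ : CommRingCat.of (A' i) ⟶ CommRingCat.of (A' i ⊗[A] C) :=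
      CommRingCat.ofHom Algebra.TensorProduct.includeLeftRingHom
    let r : CommRingCat.of C ⟶ CommRingCat.of (A' i ⊗[A] C) :=
      CommRingCat.ofHom (Algebra.TensorProduct.includeRight : C →ₐ[A] A' i ⊗[A] C).toRingHom
    have hsq : CommRingCat.ofHom (algebraMap A (A' i)) ≫ ψ =
        CommRingCat.ofHom (algebraMap A C) ≫ r := by
      ext a
      exact (((Algebra.TensorProduct.includeRight : C →ₐ[A] A' i ⊗[A] C).commutes a).trans rfl).symm
    have : Contains f j (Spec.map ψ ≫ Spec.map (CommRingCat.ofHom (algebraMap A (A' i))) ≫ σ) := by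
      rw [← Category.assoc, ← Spec.map_comp, hsq, Spec.map_comp, Category.assoc]
      exact hP.comp _
    exact (h i _ ψ).mp this hx
  refine ⟨𝔞, fun C φ => ⟨fun hP a ha => ?_, fun hle => ?_⟩⟩
  · letI := φ.hom.toAlgebra
    rw [RingHom.mem_ker]
    refine eq_zero_of_forall_tmul A' hsurj (M := C) _ fun i => ?_
    have h0 := key C hP i _ (Ideal.mem_comap.mp ((Submodule.mem_iInf _).mp ha i))
    rw [Algebra.algebraMap_eq_smul_one, TensorProduct.smul_tmul, Algebra.smul_def, mul_one] at h0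
    exact h0
  -- it is enough to treat the universal point
  suffices hu : Contains f j (Spec.map (CommRingCat.ofHom (Ideal.Quotient.mk 𝔞)) ≫ σ) by
    let φ' : CommRingCat.of (A ⧸ 𝔞) ⟶ C :=
      CommRingCat.ofHom (Ideal.Quotient.lift 𝔞 φ.hom hle)
    have : φ = CommRingCat.ofHom (Ideal.Quotient.mk 𝔞) ≫ φ' := by ext a; rfl
    rw [this, Spec.map_comp, Category.assoc]
    exact hu.comp _
  let σ₀ := Spec.map (CommRingCat.ofHom (Ideal.Quotient.mk 𝔞))
  let σi (i : ι) := Spec.map (CommRingCat.ofHom (algebraMap A (A' i)))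
  haveI : ∀ i, IsOpenImmersion (σi i) := fun i => inferInstanceAs (IsOpenImmersion (Spec.map _))
  haveI : ∀ i, Flat (σi i) := fun i => by
    rw [HasRingHomProperty.Spec_iff (P := @Flat)]
    exact RingHom.flat_algebraMap_iff.mpr inferInstance
  refine contains_of_open_family _ (fun i => pullback.snd (σi i) σ₀) ?_ fun i => ?_
  · intro x
    obtain ⟨i, q, hq⟩ := hsurj (σ₀ x)
    obtain ⟨t, -, ht⟩ := Scheme.Pullback.exists_preimage_pullback (f := σi i) (g := σ₀) q x hq
    exact ⟨i, t, ht⟩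
  · rw [← pullback.condition_assoc]
    show Contains f j (pullback.fst (Spec.map (CommRingCat.ofHom (algebraMap A (A' i))))
      (Spec.map (CommRingCat.ofHom (algebraMap A (A ⧸ 𝔞)))) ≫ σi i ≫ σ)
    rw [← pullbackSpecIso_hom_fst' A (A' i) (A ⧸ 𝔞), Category.assoc]
    refine Contains.comp ((h i _ _).mpr fun x hx => ?_) _
    rw [RingHom.mem_ker]
    show x ⊗ₜ[A] (1 : A ⧸ 𝔞) = 0
    let u : (A ⧸ 𝔞) →ₗ[A] ∀ l, A' l ⧸ 𝔞' l :=
      LinearMap.pi fun l => Submodule.liftQ 𝔞
        ((Ideal.Quotient.mkₐ A (𝔞' l)).toLinearMap ∘ₗ Algebra.linearMap A (A' l))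
        (fun a ha => by
          show Ideal.Quotient.mk (𝔞' l) (algebraMap A (A' l) a) = 0
          exact Ideal.Quotient.eq_zero_iff_mem.mpr
            (Ideal.mem_comap.mp ((Submodule.mem_iInf _).mp ha l)))
    have hu : Function.Injective u := by
      rw [injective_iff_map_eq_zero]
      intro y hy
      obtain ⟨a, rfl⟩ := Ideal.Quotient.mk_surjective y
      rw [Ideal.Quotient.eq_zero_iff_mem, Submodule.mem_iInf]
      exact fun l => Ideal.mem_comap.mpr (Ideal.Quotient.eq_zero_iff_mem.mp (congrFun hy l))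
    apply Module.Flat.lTensor_preserves_injective_linearMap (M := A' i) u hu
    rw [map_zero, LinearMap.lTensor_tmul]
    apply (TensorProduct.piRight A A (A' i) fun l => A' l ⧸ 𝔞' l).injective
    ext l
    rw [map_zero, TensorProduct.piRight_apply, TensorProduct.piRightHom_tmul, Pi.zero_apply]
    have := key (A' l ⧸ 𝔞' l) (by
      rw [show CommRingCat.ofHom (algebraMap A (A' l ⧸ 𝔞' l)) =
        CommRingCat.ofHom (algebraMap A (A' l)) ≫ CommRingCat.ofHom (Ideal.Quotient.mk (𝔞' l)) from rfl,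
        Spec.map_comp, Category.assoc]
      exact (h l).contains) i x hx
    show x ⊗ₜ[A] u 1 l = 0
    rw [show u 1 l = 1 from
      (congrArg (Ideal.Quotient.mk (𝔞' l)) (map_one (algebraMap A (A' l)))).trans (map_one _)]
    exact this

theorem exists_hasUniv_affine [Mono j] (hloc : HasUnivLocally f j) (W : S.affineOpens) :
    ∃ 𝔞 : Ideal Γ(S, W.1), HasUniv f j W.2.fromSpec 𝔞 := by
  have : ∀ x : W.1, ∃ r : Γ(S, W.1), x.1 ∈ S.basicOpen r ∧
      ∃ 𝔟 : Ideal Γ(S, S.basicOpen r), HasUniv f j (W.2.basicOpen r).fromSpec 𝔟 := by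
    intro x
    obtain ⟨A, σ, 𝔞, hσ, hx, h⟩ := hloc x.1
    obtain ⟨r, hr, ψ, hψ⟩ := exists_hasUniv_basicOpen W x.1 x.2 σ hx h
    exact ⟨r, hr, _, hψ⟩
  choose r hr 𝔟 h𝔟 using this
  obtain ⟨t, ht⟩ := W.2.isCompact.elim_finite_subcover (fun x : W.1 => (S.basicOpen (r x) : Set S))
    (fun x => (S.basicOpen _).2) (fun x hx => Set.mem_iUnion.mpr ⟨⟨x, hx⟩, hr _⟩)
  let pt : Fin t.card → W.1 := fun k => (t.equivFin.symm k).1
  haveI : ∀ k, Module.Flat Γ(S, W.1) Γ(S, S.basicOpen (r (pt k))) :=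
    fun k => flat_section_basicOpen W.2 _
  haveI : ∀ k, IsOpenImmersion (Spec.map (CommRingCat.ofHom
      (algebraMap Γ(S, W.1) Γ(S, S.basicOpen (r (pt k)))))) := fun k =>
    haveI := W.2.isLocalization_basicOpen (r (pt k))
    IsOpenImmersion.of_isLocalization (r (pt k))
  refine hasUniv_of_family (A := Γ(S, W.1)) W.2.fromSpec
    (fun k => Γ(S, S.basicOpen (r (pt k))))
    (exists_comap_basicOpen_eq W.2 (fun k => r (pt k)) fun x hx => ?_) (fun k => 𝔟 (pt k)) fun k => ?_
  · obtain ⟨y, hy, hxy⟩ := Set.mem_iUnion₂.mp (ht hx)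
    exact ⟨t.equivFin ⟨y, hy⟩, by simpa [pt] using hxy⟩
  · have := W.2.map_fromSpec (W.2.basicOpen (r (pt k))) (homOfLE (S.basicOpen_le (r (pt k)))).op
    show HasUniv f j (Spec.map (S.presheaf.map (homOfLE (S.basicOpen_le (r (pt k)))).op) ≫ W.2.fromSpec) _
    rw [this]
    exact h𝔟 _

/-- The ideal sheaf of the largest closed subscheme of `S` over which `j` is an isomorphism. -/
noncomputable def univIdeal [Mono j] (hloc : HasUnivLocally f j) : S.IdealSheafData where
  ideal W := (exists_hasUniv_affine hloc W).choose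
  map_ideal_basicOpen W r := by
    have h := ((exists_hasUniv_affine hloc W).choose_spec).map
      (S.presheaf.map (homOfLE (S.basicOpen_le r)).op)
    rw [W.2.map_fromSpec (W.2.basicOpen r)] at h
    exact h.unique (exists_hasUniv_affine hloc (S.affineBasicOpen r)).choose_spec

lemma hasUniv_univIdeal [Mono j] (hloc : HasUnivLocally f j) (W : S.affineOpens) :
    HasUniv f j W.2.fromSpec ((univIdeal hloc).ideal W) :=
  (exists_hasUniv_affine hloc W).choose_spec

lemma contains_subschemeι [Mono j] (hloc : HasUnivLocally f j) :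
    Contains f j (univIdeal hloc).subschemeι := by
  refine contains_of_open_family _ (fun U => (univIdeal hloc).subschemeCover.f U) ?_ fun U => ?_
  · intro x
    obtain ⟨y, hy⟩ := (univIdeal hloc).subschemeCover.covers x
    exact ⟨_, y, hy⟩
  · rw [Scheme.IdealSheafData.subschemeCover_map_subschemeι, Scheme.IdealSheafData.glueDataObjι,
      Category.assoc, IsAffineOpen.isoSpec_inv_ι]
    exact (hasUniv_univIdeal hloc U).contains

/-- The closed subscheme cut out by the universal ideals represents `Contains`. -/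
theorem contains_iff_factors [Mono j] (hloc : HasUnivLocally f j) {S' : Scheme.{u}}
    (g : S' ⟶ S) : (∃ g', g' ≫ (univIdeal hloc).subschemeι = g) ↔ Contains f j g := by
  constructor
  · rintro ⟨g', rfl⟩
    exact (contains_subschemeι hloc).comp g'
  · intro hg
    refine ⟨IsClosedImmersion.lift (univIdeal hloc).subschemeι g ?_,
      IsClosedImmersion.lift_fac _ _ _⟩
    rw [Scheme.IdealSheafData.ker_subschemeι]
    refine le_ker_of_forall_appLE _ _ fun U V e => (hasUniv_univIdeal hloc U _ (g.appLE U V e)).mp ?_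
    rw [U.2.SpecMap_appLE_fromSpec g V.2 e]
    exact hg.comp _

/-- Finite generation of the universal ideals is local. -/
lemma fg_univIdeal [Mono j] (hloc : HasUnivLocally f j)
    (hfg : ∀ s : S, ∃ (A : CommRingCat.{u}) (σ : Spec A ⟶ S) (𝔞 : Ideal A),
      IsOpenImmersion σ ∧ s ∈ Set.range σ ∧ HasUniv f j σ 𝔞 ∧ 𝔞.FG)
    (W : S.affineOpens) : ((univIdeal hloc).ideal W).FG := by
  have : ∀ x : W.1, ∃ r : Γ(S, W.1), x.1 ∈ S.basicOpen r ∧
      ((univIdeal hloc).ideal (S.affineBasicOpen r)).FG := by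
    intro x
    obtain ⟨A, σ, 𝔞, hσ, hx, h, h𝔞⟩ := hfg x.1
    obtain ⟨r, hr, ψ, hψ⟩ := exists_hasUniv_basicOpen W x.1 x.2 σ hx h
    refine ⟨r, hr, ?_⟩
    rw [(hasUniv_univIdeal hloc (S.affineBasicOpen r)).unique hψ]
    exact h𝔞.map _
  choose r hr h𝔟 using this
  obtain ⟨t, ht⟩ := W.2.isCompact.elim_finite_subcover (fun x : W.1 => (S.basicOpen (r x) : Set S))
    (fun x => (S.basicOpen _).2) (fun x hx => Set.mem_iUnion.mpr ⟨⟨x, hx⟩, hr _⟩)
  let pt : Fin t.card → W.1 := fun k => (t.equivFin.symm k).1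
  haveI : ∀ k, Module.Flat Γ(S, W.1) Γ(S, S.basicOpen (r (pt k))) :=
    fun k => flat_section_basicOpen W.2 _
  refine fg_of_forall_map (fun k => Γ(S, S.basicOpen (r (pt k))))
    (exists_comap_basicOpen_eq W.2 (fun k => r (pt k)) fun x hx => ?_) fun k => ?_
  · obtain ⟨y, hy, hxy⟩ := Set.mem_iUnion₂.mp (ht hx)
    exact ⟨t.equivFin ⟨y, hy⟩, by simpa [pt] using hxy⟩
  · show (((univIdeal hloc).ideal W).map
      (S.presheaf.map (homOfLE (S.basicOpen_le (r (pt k)))).op).hom).FG
    rw [Scheme.IdealSheafData.map_ideal_basicOpen]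
    exact h𝔟 _


end Groth.Agent.H21Taylor.MonoGlue
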