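import Groth.Agent.H21Taylor.MonoCore
import Groth.Agent.H21Taylor.MonoGlue
import Mathlib

/-!
# The locus where a subgroup monomorphism is an isomorphism is a closed subscheme
-/

set_option autoImplicit false
set_option linter.style.haveILetI false
set_option backward.isDefEq.respectTransparency false
set_option synthInstance.maxHeartbeats 100000
set_option maxHeartbeats 1000000

universe u

open CategoryTheory CategoryTheory.Limits MonoidalCategory CartesianMonoidalCategory MonObj GrpObj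
  AlgebraicGeometry TensorProduct

namespace Groth.Agent.H21Taylor

variable {S : Scheme.{u}} {X Y : Over S}

/-- The ring-theoretic data of the chart. -/
theorem exists_hasUniv_chart [GrpObj X] [Smooth X.hom] [GeometricallyIrreducible X.hom]
    (i : Y ⟶ X) [Mono i.left]
    (hmul : ∀ (T : Over S) (a b : T ⟶ Y), ∃ c : T ⟶ Y, c ≫ i = (a ≫ i) * (b ≫ i))
    {R A P P' Q : Type u} [CommRing R] [CommRing A] [CommRing P] [CommRing P'] [CommRing Q]
    [Algebra R A] [Algebra R P] [Algebra P P'] [Algebra P Q] [Algebra R P'] [IsScalarTower R P P']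
    [Algebra.Smooth R P] [Algebra.Etale P P'] [Algebra.FinitePresentation P Q]
    (u₀ : Spec (CommRingCat.of R) ⟶ S) [Mono u₀]
    [IsOpenImmersion (Spec.map (CommRingCat.ofHom (algebraMap R A)))]
    (w₀ : Spec (CommRingCat.of P) ⟶ X.left) [IsOpenImmersion w₀]
    (hw₀ : w₀ ≫ X.hom = Spec.map (CommRingCat.ofHom (algebraMap R P)) ≫ u₀) [IsOpenImmersion u₀]
    (jf : Spec (CommRingCat.of Q) ⟶ Y.left) [IsOpenImmersion jf]
    (hjf : jf ≫ i.left = Spec.map (CommRingCat.ofHom (algebraMap P Q)) ≫ w₀)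
    (ψ : P' →ₐ[P] Q) (hψ : Function.Surjective ψ)
    (sA : Spec (CommRingCat.of A) ⟶ Spec (CommRingCat.of Q))
    (hsA : sA ≫ jf ≫ i.left = Spec.map (CommRingCat.ofHom (algebraMap R A)) ≫ u₀ ≫ η[X].left) :
    ∃ 𝔞 : Ideal A, H19Grp.HasUniv X.hom i.left (Spec.map (CommRingCat.ofHom (algebraMap R A)) ≫ u₀) 𝔞 ∧
      𝔞.FG := by
  classical
  obtain ⟨s₀, hs₀⟩ : (RingHom.ker ψ).FG :=
    Algebra.FinitePresentation.ker_fG_of_surjective ψ hψ
  obtain ⟨εQ, rfl⟩ := Spec.map_surjective sA
  let σ := Spec.map (CommRingCat.ofHom (algebraMap R A)) ≫ u₀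
  haveI : Algebra.Smooth R P' := Algebra.Smooth.comp R P P'
  let B := A ⊗[R] P'
  have hRA : εQ.hom.comp ((algebraMap P Q).comp (algebraMap R P)) = algebraMap R A := by
    have h : CommRingCat.ofHom (algebraMap R P) ≫ CommRingCat.ofHom (algebraMap P Q) ≫ εQ =
        CommRingCat.ofHom (algebraMap R A) := by
      apply Spec.map_injective
      rw [← cancel_mono u₀, Spec.map_comp, Spec.map_comp]
      simp only [Category.assoc]
      rw [← hw₀, ← Category.assoc (Spec.map (CommRingCat.ofHom (algebraMap P Q))) w₀, ← hjf, Category.assoc,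
        reassoc_of% hsA]
      congr 1
      conv_lhs => rw [Over.w η[X]]
      exact Category.comp_id _
    exact congrArg CommRingCat.Hom.hom h
  let η₀ : P' →ₐ[R] A :=
    { εQ.hom.comp ψ.toRingHom with
      commutes' := fun r => by
        show εQ.hom (ψ (algebraMap R P' r)) = _
        rw [IsScalarTower.algebraMap_apply R P P', AlgHom.commutes]
        exact RingHom.congr_fun hRA r }
  let ε : B →ₐ[A] A := Algebra.TensorProduct.lift (Algebra.ofId A A) η₀ fun _ _ => Commute.all _ _
  let inclR : P' →+* B := (Algebra.TensorProduct.includeRight : P' →ₐ[R] B).toRingHom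
  let mP : Spec (CommRingCat.of P') ⟶ X.left := Spec.map (CommRingCat.ofHom (algebraMap P P')) ≫ w₀
  haveI : Etale (Spec.map (CommRingCat.ofHom (algebraMap P P'))) := by
    rw [HasRingHomProperty.Spec_iff (P := @Etale)]
    exact RingHom.etale_algebraMap.mpr inferInstance
  haveI : Etale mP := inferInstance
  have hmP : mP ≫ X.hom = Spec.map (CommRingCat.ofHom (algebraMap R P')) ≫ u₀ := by
    rw [Category.assoc, hw₀, ← Category.assoc, ← Spec.map_comp, IsScalarTower.algebraMap_eq R P P']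
    rfl
  let m : Spec (CommRingCat.of B) ⟶ pullback X.hom σ :=
    pullback.lift (Spec.map (CommRingCat.ofHom inclR) ≫ mP) (Spec.map (CommRingCat.ofHom (algebraMap A B))) (by
      rw [Category.assoc, hmP, ← Category.assoc, ← Category.assoc, ← Spec.map_comp, ← Spec.map_comp,
        ← CommRingCat.ofHom_comp, ← CommRingCat.ofHom_comp]
      congr 3
      ext r
      show (1 : A) ⊗ₜ[R] algebraMap R P' r = algebraMap R A r ⊗ₜ[R] (1 : P')
      rw [Algebra.algebraMap_eq_smul_one r, ← smul_tmul, Algebra.algebraMap_eq_smul_one r])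
  haveI : IsOpenImmersion (Spec.map (CommRingCat.ofHom inclR)) :=
    MorphismProperty.of_isPullback (P := @IsOpenImmersion)
      (isPullback_SpecMap_of_isPushout _ _ _ _ (CommRingCat.isPushout_tensorProduct R A P'))
      ‹IsOpenImmersion (Spec.map (CommRingCat.ofHom (algebraMap R A)))›
  haveI : IsOpenImmersion σ := inferInstance
  haveI : IsOpenImmersion (pullback.fst X.hom σ) := inferInstance
  haveI : Etale (m ≫ pullback.fst X.hom σ) := by rw [pullback.lift_fst]; infer_instance
  haveI : Etale m := Etale.of_comp m (pullback.fst X.hom σ)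
  let s : Finset B := s₀.image inclR
  let J : Ideal B := Ideal.span (s : Set B)
  have hker : RingHom.ker ψ.toRingHom ≤ RingHom.ker ((Ideal.Quotient.mk J).comp inclR) := by
    intro x hx
    have hx' : x ∈ Ideal.span (s₀ : Set P') := hs₀ ▸ hx
    refine (Ideal.span_le.mpr fun y hy => ?_) hx'
    exact Ideal.Quotient.eq_zero_iff_mem.mpr (Ideal.subset_span (by simpa [s] using ⟨y, hy, rfl⟩))
  let ρ : Q →+* B ⧸ J := RingHom.liftOfSurjective ψ.toRingHom hψ ⟨(Ideal.Quotient.mk J).comp inclR, hker⟩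
  have hρ : ρ.comp ψ.toRingHom = (Ideal.Quotient.mk J).comp inclR :=
    RingHom.liftOfSurjective_comp ψ.toRingHom hψ _
  have hρP : ρ.comp (algebraMap P Q) = ((Ideal.Quotient.mk J).comp inclR).comp (algebraMap P P') := by
    rw [← hρ, RingHom.comp_assoc]
    exact congrArg _ (RingHom.ext fun p => (ψ.commutes p).symm)
  let jQ : Spec (CommRingCat.of (B ⧸ J)) ⟶ Y.left := Spec.map (CommRingCat.ofHom ρ) ≫ jf
  have hjQ : jQ ≫ i.left = Spec.map (CommRingCat.ofHom (Ideal.Quotient.mk J)) ≫ m ≫ pullback.fst X.hom σ := by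
    rw [Category.assoc, hjf, pullback.lift_fst, ← Category.assoc, ← Spec.map_comp, ← Category.assoc,
      ← Category.assoc, ← Spec.map_comp, ← Spec.map_comp, ← CommRingCat.ofHom_comp, hρP]
    rfl
  have hεs : ∀ x ∈ s, ε x = 0 := by
    intro x hx
    obtain ⟨y, hy, rfl⟩ := Finset.mem_image.mp hx
    have : y ∈ RingHom.ker ψ := hs₀ ▸ Ideal.subset_span hy
    show algebraMap A A 1 * εQ.hom (ψ y) = 0
    rw [RingHom.mem_ker.mp this, map_zero, mul_zero]
  refine exists_hasUniv_mono_core i hmul σ B m (pullback.lift_snd _ _ _) ε ?_ s hεs jQ hjQ ?_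
  · rw [pullback.lift_fst, ← Category.assoc, ← Category.assoc, ← Spec.map_comp, ← Spec.map_comp]
    show _ = (Spec.map (CommRingCat.ofHom (algebraMap R A)) ≫ u₀) ≫ η[X].left
    simp only [Category.assoc, ← hsA]
    rw [hjf]
    simp only [← Category.assoc, ← Spec.map_comp]
    congr 2
    ext p
    show algebraMap A A 1 * εQ.hom (ψ (algebraMap P P' p)) = εQ.hom (algebraMap P Q p)
    rw [AlgHom.commutes, map_one, _root_.one_mul]
  · intro D _ φ N hN hφ y hy x hx
    obtain ⟨x₀, hx₀, rfl⟩ := Finset.mem_image.mp hx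
    have hJN : J ≤ RingHom.ker ((Ideal.Quotient.mk N).comp φ) :=
      Ideal.span_le.mpr fun z hz => Ideal.Quotient.eq_zero_iff_mem.mpr (hφ z hz)
    let φbar : B ⧸ J →+* D ⧸ N := Ideal.Quotient.lift J ((Ideal.Quotient.mk N).comp φ) hJN
    have hy' : Spec.map (CommRingCat.ofHom (Ideal.Quotient.mk N)) ≫ y =
        Spec.map (CommRingCat.ofHom φbar) ≫ jQ := by
      rw [← cancel_mono i.left, Category.assoc, Category.assoc, hy, hjQ]
      simp only [← Category.assoc, ← Spec.map_comp]
      rfl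
    have hrange : Set.range y ⊆ Set.range jf := by
      rintro _ ⟨d, rfl⟩
      obtain ⟨d', rfl⟩ : d ∈ Set.range (Spec.map (CommRingCat.ofHom (Ideal.Quotient.mk N))) := by
        show d ∈ Set.range (PrimeSpectrum.comap (Ideal.Quotient.mk N))
        rw [range_comap_of_surjective _ _ Ideal.Quotient.mk_surjective, Ideal.mk_ker,
          PrimeSpectrum.mem_zeroLocus]
        intro n hn
        obtain ⟨k, hk⟩ := hN
        exact d.isPrime.mem_of_pow_mem k (by
          have : n ^ k ∈ N ^ k := Ideal.pow_mem_pow hn k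
          rw [hk] at this
          rw [this]
          exact Submodule.zero_mem _)
      refine ⟨(Spec.map (CommRingCat.ofHom ρ)) (Spec.map (CommRingCat.ofHom φbar) d'), ?_⟩
      rw [← Scheme.Hom.comp_apply, ← Scheme.Hom.comp_apply, ← Scheme.Hom.comp_apply, hy']

    obtain ⟨ν, hν⟩ := Spec.map_surjective (IsOpenImmersion.lift jf y hrange)
    have hνy : Spec.map ν ≫ jf = y := by rw [hν, IsOpenImmersion.lift_fac]
    letI : Algebra P D := ((φ.comp inclR).comp (algebraMap P P')).toAlgebra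
    have hνP : ν.hom.comp (algebraMap P Q) = (φ.comp inclR).comp (algebraMap P P') := by
      have h : CommRingCat.ofHom (algebraMap P Q) ≫ ν = CommRingCat.ofHom ((φ.comp inclR).comp (algebraMap P P')) := by
        apply Spec.map_injective
        rw [← cancel_mono w₀, Spec.map_comp, Category.assoc, ← hjf, reassoc_of% hνy, hy, pullback.lift_fst]
        rw [← Category.assoc, ← Category.assoc, ← Spec.map_comp, ← Spec.map_comp]
        rfl
      exact congrArg CommRingCat.Hom.hom h
    let g₁ : P' →ₐ[P] D :=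
      { ν.hom.comp ψ.toRingHom with
        commutes' := fun p => by
          show ν.hom (ψ (algebraMap P P' p)) = _
          rw [AlgHom.commutes]
          exact RingHom.congr_fun hνP p }
    let g₂ : P' →ₐ[P] D := { φ.comp inclR with commutes' := fun _ => rfl }
    have hρν : (Ideal.Quotient.mk N).comp ν.hom = φbar.comp ρ := by
      have h : ν ≫ CommRingCat.ofHom (Ideal.Quotient.mk N) = CommRingCat.ofHom (φbar.comp ρ) := by
        apply Spec.map_injective
        rw [← cancel_mono jf, Spec.map_comp, Category.assoc, hνy, hy', ← Category.assoc, ← Spec.map_comp]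
        rfl
      exact congrArg CommRingCat.Hom.hom h
    have heq : g₁ = g₂ := Algebra.FormallyUnramified.lift_unique N hN g₁ g₂ (AlgHom.ext fun z => by
      show Ideal.Quotient.mk N (ν.hom (ψ z)) = Ideal.Quotient.mk N (φ (inclR z))
      have e1 := RingHom.congr_fun hρν (ψ z)
      have e2 := RingHom.congr_fun hρ z
      simp only [RingHom.comp_apply] at e1
      rw [e1]
      change φbar (ρ (ψ z)) = _
      change ρ (ψ z) = _ at e2
      rw [e2]
      rfl)
    have := congrArg (fun F : P' →ₐ[P] D => F x₀) heq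
    show g₂ x₀ = 0
    rw [← heq]
    show ν.hom (ψ x₀) = 0
    have hx0 : x₀ ∈ RingHom.ker ψ := hs₀ ▸ Ideal.subset_span hx₀
    rw [RingHom.mem_ker.mp hx0, map_zero]

/-- Zariski-locally the locus where a subgroup is everything has a universal ideal. -/
theorem exists_hasUniv_of_mono [GrpObj X] [Smooth X.hom] [GeometricallyIrreducible X.hom]
    (i : Y ⟶ X) [Mono i.left] [LocallyOfFinitePresentation i.left]
    (e' : 𝟙_ (Over S) ⟶ Y) (he' : e' ≫ i = η[X])
    (hmul : ∀ (T : Over S) (a b : T ⟶ Y), ∃ c : T ⟶ Y, c ≫ i = (a ≫ i) * (b ≫ i)) (t : S) :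
    ∃ (A : CommRingCat.{u}) (σ : Spec A ⟶ S) (𝔞 : Ideal A), IsOpenImmersion σ ∧ t ∈ Set.range σ ∧
      H19Grp.HasUniv X.hom i.left σ 𝔞 ∧ 𝔞.FG := by
  have he'' : e'.left ≫ i.left = η[X].left := by rw [← Over.comp_left, he']
  have hηt : X.hom (η[X].left t) = t := by
    rw [← Scheme.Hom.comp_apply, Over.w η[X]]; rfl
  obtain ⟨_, ⟨U, hU, rfl⟩, htU, -⟩ := S.isBasis_affineOpens.exists_subset_of_mem_open
    (Set.mem_univ t) isOpen_univ
  obtain ⟨_, ⟨W, hW, rfl⟩, hxW, hWU⟩ := X.left.isBasis_affineOpens.exists_subset_of_mem_open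
    (show η[X].left t ∈ X.hom ⁻¹ᵁ U by
      show X.hom (η[X].left t) ∈ U
      rw [hηt]; exact htU) (X.hom ⁻¹ᵁ U).isOpen
  obtain ⟨_, ⟨V, hV, rfl⟩, hyV, hVW⟩ := Y.left.isBasis_affineOpens.exists_subset_of_mem_open
    (show e'.left t ∈ i.left ⁻¹ᵁ W by
      show i.left (e'.left t) ∈ W
      rw [← Scheme.Hom.comp_apply, he'']; exact hxW) (i.left ⁻¹ᵁ W).isOpen
  replace hU : IsAffineOpen U := hU
  replace hW : IsAffineOpen W := hW
  replace hV : IsAffineOpen V := hV
  letI := (X.hom.appLE U W hWU).hom.toAlgebra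
  letI := (i.left.appLE W V hVW).hom.toAlgebra
  haveI : Algebra.Smooth Γ(S, U) Γ(X.left, W) :=
    RingHom.smooth_algebraMap.mp (HasRingHomProperty.appLE (P := @Smooth) X.hom inferInstance ⟨U, hU⟩ ⟨W, hW⟩ hWU)
  haveI : Algebra.FinitePresentation Γ(X.left, W) Γ(Y.left, V) :=
    i.left.finitePresentation_appLE hW hV hVW
  haveI : FormallyUnramified i.left := inferInstance
  haveI : Algebra.FormallyUnramified Γ(X.left, W) Γ(Y.left, V) :=
    HasRingHomProperty.appLE (P := @FormallyUnramified) i.left inferInstance ⟨W, hW⟩ ⟨V, hV⟩ hVW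
  let q := hV.primeIdealOf ⟨e'.left t, hyV⟩
  obtain ⟨f, hfq, pair, ψ, hψ⟩ :=
    Algebra.IsUnramifiedAt.exists_hasStandardEtaleSurjectionOn (R := Γ(X.left, W)) q.asIdeal
  let Q := Localization.Away f
  letI : Algebra Γ(S, U) pair.Ring := ((algebraMap Γ(X.left, W) pair.Ring).comp (algebraMap Γ(S, U) Γ(X.left, W))).toAlgebra
  haveI : IsScalarTower Γ(S, U) Γ(X.left, W) pair.Ring := IsScalarTower.of_algebraMap_eq fun _ => rfl
  haveI : IsOpenImmersion (Spec.map (CommRingCat.ofHom (algebraMap Γ(Y.left, V) Q))) :=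
    IsOpenImmersion.of_isLocalization f
  let jf : Spec (CommRingCat.of Q) ⟶ Y.left :=
    Spec.map (CommRingCat.ofHom (algebraMap Γ(Y.left, V) Q)) ≫ hV.fromSpec
  haveI : Algebra.FinitePresentation Γ(Y.left, V) Q := IsLocalization.Away.finitePresentation f
  haveI : Algebra.FinitePresentation Γ(X.left, W) Q := Algebra.FinitePresentation.trans _ Γ(Y.left, V) _
  have hjf : jf ≫ i.left = Spec.map (CommRingCat.ofHom (algebraMap Γ(X.left, W) Q)) ≫ hW.fromSpec := by
    rw [Category.assoc, ← hW.SpecMap_appLE_fromSpec i.left hV hVW, ← Category.assoc, ← Spec.map_comp]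
    rfl
  have hy : e'.left t ∈ Set.range jf := by
    obtain ⟨p, hp⟩ : q ∈ Set.range (PrimeSpectrum.comap (algebraMap Γ(Y.left, V) Q)) := by
      rw [PrimeSpectrum.localization_away_comap_range Q f]
      exact hfq
    refine ⟨p, ?_⟩
    rw [Scheme.Hom.comp_apply, show Spec.map (CommRingCat.ofHom (algebraMap Γ(Y.left, V) Q)) p = q from hp]
    exact hV.fromSpec_primeIdealOf _
  obtain ⟨a, ha, hta⟩ := hU.exists_basicOpen_le (V := e'.left ⁻¹ᵁ jf.opensRange) ⟨t, hy⟩ htU
  letI : Algebra Γ(S, U) Γ(S, S.basicOpen a) := (S.presheaf.map (homOfLE (S.basicOpen_le a)).op).hom.toAlgebra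
  have hres : Spec.map (CommRingCat.ofHom (algebraMap Γ(S, U) Γ(S, S.basicOpen a))) ≫ hU.fromSpec =
      (hU.basicOpen a).fromSpec := hU.map_fromSpec (hU.basicOpen a) (homOfLE (S.basicOpen_le a)).op
  haveI : IsOpenImmersion (Spec.map (CommRingCat.ofHom (algebraMap Γ(S, U) Γ(S, S.basicOpen a)))) := by
    haveI : IsOpenImmersion (Spec.map (CommRingCat.ofHom (algebraMap Γ(S, U) Γ(S, S.basicOpen a))) ≫ hU.fromSpec) :=
      hres ▸ inferInstance
    exact IsOpenImmersion.of_comp _ hU.fromSpec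
  let sA : Spec Γ(S, S.basicOpen a) ⟶ Spec (CommRingCat.of Q) :=
    IsOpenImmersion.lift jf ((hU.basicOpen a).fromSpec ≫ e'.left) (by
      rintro _ ⟨z, rfl⟩
      exact ha ((hU.basicOpen a).range_fromSpec.subset ⟨z, rfl⟩))
  obtain ⟨𝔞, h𝔞, hfg⟩ := exists_hasUniv_chart i hmul (R := Γ(S, U)) (A := Γ(S, S.basicOpen a))
    (P := Γ(X.left, W)) (P' := pair.Ring) (Q := Q) hU.fromSpec hW.fromSpec
    (hU.SpecMap_appLE_fromSpec X.hom hW hWU).symm jf hjf ψ hψ sA (by
      rw [← Category.assoc, IsOpenImmersion.lift_fac, Category.assoc, he'', ← hres, Category.assoc])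
  refine ⟨_, (hU.basicOpen a).fromSpec, 𝔞, inferInstance, (hU.basicOpen a).range_fromSpec.superset hta, ?_, hfg⟩
  rwa [← hres]

/-- The locus where a subgroup monomorphism becomes everything is a closed subscheme of finite presentation. -/
theorem exists_closed_contains_mono [GrpObj X] [Smooth X.hom] [GeometricallyIrreducible X.hom]
    (i : Y ⟶ X) [Mono i.left] [LocallyOfFinitePresentation i.left]
    (e' : 𝟙_ (Over S) ⟶ Y) (he' : e' ≫ i = η[X])
    (hmul : ∀ (T : Over S) (a b : T ⟶ Y), ∃ c : T ⟶ Y, c ≫ i = (a ≫ i) * (b ≫ i)) :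
    ∃ (T : Scheme.{u}) (t : T ⟶ S), IsClosedImmersion t ∧ LocallyOfFinitePresentation t ∧
      ∀ (S' : Scheme.{u}) (g : S' ⟶ S), (∃ g' : S' ⟶ T, g' ≫ t = g) ↔ H19Grp.Contains X.hom i.left g := by
  have hloc : H19Grp.HasUnivLocally X.hom i.left := fun s => by
    obtain ⟨A, σ, 𝔞, hσ, hs, h, -⟩ := exists_hasUniv_of_mono i e' he' hmul s
    exact ⟨A, σ, 𝔞, hσ, hs, h⟩
  refine ⟨_, (MonoGlue.univIdeal hloc).subschemeι, inferInstance,
    H19Grp.locallyOfFinitePresentation_subschemeι _ fun W => MonoGlue.fg_univIdeal hloc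
      (fun s => exists_hasUniv_of_mono i e' he' hmul s) W,
    fun S' g => MonoGlue.contains_iff_factors hloc g⟩

end Groth.Agent.H21Taylor
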