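import Groth.Agent.H21Taylor.Alg
import Groth.Agent.H21Taylor.Dense
import Groth.Agent.H19Grp.PiClosedGlobal
import Mathlib

/-!
# Universal ideals for a smooth geometrically integral morphism near a section
-/

set_option autoImplicit false
set_option linter.style.haveILetI false
set_option backward.isDefEq.respectTransparency false

universe u

open CategoryTheory CategoryTheory.Limits AlgebraicGeometry TensorProduct Opposite

namespace Groth.Agent.H21Taylor

/-- Elements killed by a function which is nonzero somewhere in each fibre vanish. -/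
theorem eq_zero_of_killed {X S : Scheme.{u}} (f : X ⟶ S) [LocallyOfFinitePresentation f] [Flat f]
    [GeometricallyIntegral f] {D : CommRingCat.{u}} (w : Spec D ⟶ X) [IsOpenImmersion w] (v d : D)
    (hvd : v * d = 0) (hΩ : ∀ s : S, ∃ q : PrimeSpectrum D, v ∉ q.asIdeal ∧ f (w q) = s) : d = 0 := by
  let E := w.appIso ⊤ ≪≫ Scheme.ΓSpecIso D
  have hinj : Function.Injective E.inv := fun a b hab => by
    have := congrArg E.hom hab
    simpa using this
  refine hinj ((eq_zero_of_dense f (X.basicOpen (E.inv v)) ?_ (V := w ''ᵁ ⊤) (E.inv d) ?_).trans (map_zero _).symm)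
  · intro s
    obtain ⟨q, hq, hqs⟩ := hΩ s
    refine ⟨w q, ?_, hqs⟩
    have h1 : q ∈ (Spec D).basicOpen ((Scheme.ΓSpecIso D).inv v) := by
      rw [basicOpen_eq_of_affine]; exact hq
    have h2 : w ''ᵁ ((Spec D).basicOpen ((Scheme.ΓSpecIso D).inv v)) =
        X.basicOpen ((w.appIso ⊤).inv ((Scheme.ΓSpecIso D).inv v)) := Scheme.image_basicOpen w _
    have h3 := h2.le ⟨q, h1, rfl⟩
    exact h3
  · have hu : IsUnit (X.presheaf.map (homOfLE (inf_le_right :
        X.basicOpen (E.inv v) ⊓ w ''ᵁ ⊤ ≤ w ''ᵁ ⊤)).op (E.inv v)) := by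
      have h0 := RingedSpace.isUnit_res_basicOpen X.toLocallyRingedSpace.toRingedSpace (E.inv v)
      have h1 := h0.map (X.presheaf.map (homOfLE (inf_le_left :
        X.basicOpen (E.inv v) ⊓ w ''ᵁ ⊤ ≤ X.basicOpen (E.inv v))).op).hom
      erw [← ConcreteCategory.comp_apply, ← X.presheaf.map_comp] at h1
      exact h1
    refine (hu.mul_right_eq_zero).mp ?_
    rw [← map_mul, ← map_mul, hvd, map_zero, map_zero]

variable {S X Y : Scheme.{u}} {f : X ⟶ S} {j : Y ⟶ X}

theorem taylorIdeal_span {R P : Type u} [CommRing R] [CommRing P] [Algebra R P] [Algebra.FormallySmooth R P]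
    (ε : P →ₐ[R] R) (s : Set P) : taylorIdeal ε (Ideal.span s : Set P) = taylorIdeal ε s := by
  have key : ∀ (C : Type u) [CommRing C] [Algebra R C],
      taylorIdeal ε (Ideal.span s : Set P) ≤ RingHom.ker (algebraMap R C) ↔
        taylorIdeal ε s ≤ RingHom.ker (algebraMap R C) := by
    intro C _ _
    rw [taylorIdeal_le_iff, taylorIdeal_le_iff]
    refine ⟨fun h x hx => h x (Ideal.subset_span hx), fun h x hx n => ?_⟩
    have : Ideal.span s ≤ (RingHom.ker (baseSection ε C) ^ n).comap
        (Algebra.TensorProduct.includeRight : P →ₐ[R] C ⊗[R] P).toRingHom :=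
      Ideal.span_le.mpr fun y hy => h y hy n
    exact this hx
  refine le_antisymm ?_ ?_
  · have h := (key (R ⧸ taylorIdeal ε s)).mpr (by rw [Ideal.Quotient.algebraMap_eq, Ideal.mk_ker])
    rwa [Ideal.Quotient.algebraMap_eq, Ideal.mk_ker] at h
  · have h := (key (R ⧸ taylorIdeal ε (Ideal.span s : Set P))).mp (by rw [Ideal.Quotient.algebraMap_eq, Ideal.mk_ker])
    rwa [Ideal.Quotient.algebraMap_eq, Ideal.mk_ker] at h

/-- A smooth chart with a section gives a universal ideal. -/
theorem exists_hasUniv_of_section [Smooth f] [GeometricallyIntegral f] [IsClosedImmersion j]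
    {A : Type u} [CommRing A] (σ : Spec (CommRingCat.of A) ⟶ S) (B : Type u) [CommRing B] [Algebra A B]
    [Algebra.Smooth A B] (m : Spec (CommRingCat.of B) ⟶ pullback f σ) [IsOpenImmersion m]
    (hm : m ≫ pullback.snd f σ = Spec.map (CommRingCat.ofHom (algebraMap A B))) (ε : B →ₐ[A] A) :
    ∃ 𝔞 : Ideal A, H19Grp.HasUniv f j σ 𝔞 ∧ (LocallyOfFinitePresentation j → 𝔞.FG) := by
  obtain ⟨I, eI, hIe⟩ : ∃ (I : Ideal B) (e : pullback j (m ≫ pullback.fst f σ) ≅
      Spec (CommRingCat.of (B ⧸ I))), pullback.snd j (m ≫ pullback.fst f σ) =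
        e.hom ≫ Spec.map (CommRingCat.ofHom (Ideal.Quotient.mk I)) :=
    (IsClosedImmersion.Spec_iff (R := CommRingCat.of B)).mp inferInstance
  refine ⟨taylorIdeal ε (I : Set B), fun C φ => ?_, fun hj => ?_⟩
  · letI : Algebra A C := φ.hom.toAlgebra
    rw [show RingHom.ker φ.hom = RingHom.ker (algebraMap A C) from rfl, taylorIdeal_le_iff]
    let g := Spec.map φ ≫ σ
    let π : pullback f g ⟶ pullback f σ :=
      pullback.lift (pullback.fst f g) (pullback.snd f g ≫ Spec.map φ)
        (by rw [pullback.condition, Category.assoc])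
    have hπ : IsPullback π (pullback.snd f g) (pullback.snd f σ) (Spec.map φ) := by
      refine IsPullback.of_right ?_ (pullback.lift_snd _ _ _) (IsPullback.of_hasPullback f σ)
      rw [pullback.lift_fst]
      exact IsPullback.of_hasPullback f g
    let c := Spec.map (CommRingCat.ofHom
      (Algebra.TensorProduct.includeRight : B →ₐ[A] C ⊗[A] B).toRingHom)
    have h1 : IsPullback (pullback.snd π m) (pullback.fst π m ≫ pullback.snd f g)
        (Spec.map (CommRingCat.ofHom (algebraMap A B))) (Spec.map φ) := by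
      have := (IsPullback.of_hasPullback π m).flip.paste_vert hπ
      rwa [hm] at this
    have h2 : IsPullback c (Spec.map (CommRingCat.ofHom
        (Algebra.TensorProduct.includeLeftRingHom : C →+* C ⊗[A] B)))
        (Spec.map (CommRingCat.ofHom (algebraMap A B))) (Spec.map φ) :=
      (isPullback_SpecMap_of_isPushout _ _ _ _ (CommRingCat.isPushout_tensorProduct A C B)).flip
    let w : Spec (CommRingCat.of (C ⊗[A] B)) ⟶ pullback f g :=
      (h2.isoIsPullback _ _ h1).hom ≫ pullback.fst π m
    haveI : IsOpenImmersion w := inferInstance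
    have hw₁ : w ≫ pullback.fst f g = c ≫ m ≫ pullback.fst f σ := by
      have e1 : (h2.isoIsPullback _ _ h1).hom ≫ pullback.snd π m = c := h2.isoIsPullback_hom_fst _ _ h1
      rw [← e1, Category.assoc, Category.assoc, ← pullback.condition_assoc, pullback.lift_fst]
    have hw₂ : w ≫ pullback.snd f g = Spec.map (CommRingCat.ofHom
        (Algebra.TensorProduct.includeLeftRingHom : C →+* C ⊗[A] B)) := by
      rw [Category.assoc]
      exact h2.isoIsPullback_hom_snd _ _ h1
    have hpt : ∀ (v : C ⊗[A] B), baseSection ε C v = 1 → ∀ t : PrimeSpectrum C,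
        ∃ q : PrimeSpectrum (C ⊗[A] B), v ∉ q.asIdeal ∧ pullback.snd f g (w q) = t := by
      intro v hv t
      refine ⟨t.comap (baseSection ε C).toRingHom, fun h => t.isPrime.ne_top ((Ideal.eq_top_iff_one _).mpr ?_), ?_⟩
      · rw [← hv]; exact h
      · rw [← Scheme.Hom.comp_apply, hw₂]
        refine PrimeSpectrum.ext ?_
        show (t.asIdeal.comap (baseSection ε C).toRingHom).comap
          (Algebra.TensorProduct.includeLeftRingHom : C →+* C ⊗[A] B) = t.asIdeal
        ext x
        simp [baseSection_tmul]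
    constructor
    · rintro ⟨l, hl⟩ x hx n
      let l' := pullback.lift (w ≫ l) c (by rw [Category.assoc, hl, hw₁]) ≫ eI.hom
      have hl' : l' ≫ Spec.map (CommRingCat.ofHom (Ideal.Quotient.mk I)) = c := by
        rw [Category.assoc, ← hIe, pullback.lift_snd]
      obtain ⟨l'', hl''⟩ := Spec.map_surjective l'
      rw [← hl'', ← Spec.map_comp, Spec.map_inj] at hl'
      have h := ConcreteCategory.congr_hom hl' x
      change l''.hom (Ideal.Quotient.mk I x) = (1 : C) ⊗ₜ[A] x at h
      rw [Ideal.Quotient.eq_zero_iff_mem.mpr hx, map_zero] at h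
      rw [← h]
      exact zero_mem _
    · intro H
      haveI : Smooth (pullback.snd f g) := MorphismProperty.pullback_snd (P := @Smooth) _ _ inferInstance
      have hzero : ∀ x ∈ I, (1 : C) ⊗ₜ[A] x = 0 := by
        intro x hx
        obtain ⟨i, hi, hix⟩ := exists_annihilator C (C ⊗[A] B) (baseSection ε C) _ (H x hx)
        refine eq_zero_of_killed (pullback.snd f g) w (1 - i) _ hix fun t => hpt _ ?_ t
        rw [map_sub, map_one, RingHom.mem_ker.mp hi, sub_zero]
      let l₀ : CommRingCat.of (B ⧸ I) ⟶ CommRingCat.of (C ⊗[A] B) :=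
        CommRingCat.ofHom (Ideal.Quotient.lift I
          (Algebra.TensorProduct.includeRight : B →ₐ[A] C ⊗[A] B).toRingHom hzero)
      let l : Spec (CommRingCat.of (C ⊗[A] B)) ⟶ pullback j (pullback.fst f g) :=
        pullback.lift (Spec.map l₀ ≫ eI.inv ≫ pullback.fst _ _) w (by
          rw [hw₁, Category.assoc, Category.assoc, pullback.condition, hIe, Category.assoc,
            Iso.inv_hom_id_assoc, ← Category.assoc, ← Spec.map_comp]
          rfl)
      rw [H19Grp.contains_iff_isIso]
      refine isIso_of_factor_dense (pullback.snd f g) _ w.opensRange (fun t => ?_)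
        (w.isoOpensRange.inv ≫ l) ?_
      · obtain ⟨q, -, hq⟩ := hpt 1 (map_one _) t
        exact ⟨w q, ⟨q, rfl⟩, hq⟩
      · rw [Category.assoc, pullback.lift_snd]
        simp
  · haveI : LocallyOfFinitePresentation (Spec.map (CommRingCat.ofHom (Ideal.Quotient.mk I))) := by
      have : LocallyOfFinitePresentation (pullback.snd j (m ≫ pullback.fst f σ)) := inferInstance
      rw [hIe] at this
      exact (MorphismProperty.cancel_left_of_respectsIso @LocallyOfFinitePresentation eI.hom _).mp this
    have hfp : RingHom.FinitePresentation (Ideal.Quotient.mk I) :=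
      (HasRingHomProperty.Spec_iff (P := @LocallyOfFinitePresentation)).mp this
    have hfg : I.FG := by
      haveI : Algebra.FinitePresentation B (B ⧸ I) :=
        RingHom.finitePresentation_algebraMap.mp hfp
      have h := Algebra.FinitePresentation.ker_fG_of_surjective (Ideal.Quotient.mkₐ B I)
        (Ideal.Quotient.mkₐ_surjective B I)
      rwa [show RingHom.ker (Ideal.Quotient.mkₐ B I).toRingHom = I from Ideal.mk_ker] at h
    obtain ⟨t, ht⟩ := hfg
    have : taylorIdeal ε (I : Set B) = taylorIdeal ε (t : Set B) := by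
      rw [← ht]; exact taylorIdeal_span ε _
    rw [this]
    exact fg_taylorIdeal A B ε _ t.finite_toSet

end Groth.Agent.H21Taylor
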