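import Groth.Agent.H21Taylor.Alg
import Groth.Agent.H21Taylor.Weil
import Groth.Agent.H21Taylor.OpenSub
import Groth.Agent.H21Diag.Points
import Mathlib

/-!
# The locus where a subgroup is everything: universal ideal of an unramified chart at the unit
-/

set_option autoImplicit false
set_option linter.style.haveILetI false
set_option backward.isDefEq.respectTransparency false
set_option synthInstance.maxHeartbeats 100000
set_option maxHeartbeats 1000000

universe u

open CategoryTheory CategoryTheory.Limits MonoidalCategory CartesianMonoidalCategory MonObj GrpObj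
  AlgebraicGeometry TensorProduct

namespace Groth.Agent.H21Taylor

variable {S : Scheme.{u}} {X Y : Over S}

/-- Closure of a base change under multiplication. -/
theorem hmul_bc [GrpObj X] (i : Y ⟶ X)
    (hmul : ∀ (T : Over S) (a b : T ⟶ Y), ∃ c : T ⟶ Y, c ≫ i = (a ≫ i) * (b ≫ i))
    {S' : Scheme.{u}} (g : S' ⟶ S) (T : Over S') (a b : T ⟶ Red.bc g Y) :
    ∃ c : T ⟶ Red.bc g Y, c ≫ (Over.pullback g).map i =
      (a ≫ (Over.pullback g).map i) * (b ≫ (Over.pullback g).map i) := by
  obtain ⟨a', rfl⟩ := (H21Diag.bcEquiv g Y T).surjective a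
  obtain ⟨b', rfl⟩ := (H21Diag.bcEquiv g Y T).surjective b
  obtain ⟨c', hc'⟩ := hmul _ a' b'
  refine ⟨H21Diag.bcEquiv g Y T c', ?_⟩
  simp only [H21Diag.bcEquiv]
  rw [← Adjunction.homEquiv_naturality_right, ← Adjunction.homEquiv_naturality_right,
    ← Adjunction.homEquiv_naturality_right, hc']
  exact H21Diag.bcEquiv_mul g X T _ _

theorem bc_one_left_fst [GrpObj X] {S' : Scheme.{u}} (g : S' ⟶ S) :
    letI : GrpObj (Red.bc g X) := Functor.grpObjObj
    (η[Red.bc g X]).left ≫ pullback.fst X.hom g = g ≫ η[X].left := by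
  letI : GrpObj (Red.bc g X) := Functor.grpObjObj
  show (η[Red.bc g X]).left ≫ pullback.fst X.hom g = g ≫ η[X].left
  have h1 : H21Diag.bcEquiv g X (Over.mk (𝟙 S')) 1 = (1 : Over.mk (𝟙 S') ⟶ Red.bc g X) := by
    have h := H21Diag.bcEquiv_mul g X (Over.mk (𝟙 S')) 1 1
    rw [_root_.one_mul] at h
    exact mul_eq_left.mp h.symm
  have h2 := H21Diag.bcEquiv_left_fst g X (Over.mk (𝟙 S')) 1
  rw [h1, Hom.one_def, Hom.one_def] at h2
  simp only [Over.comp_left] at h2
  have e1 : (toUnit (Over.mk (𝟙 S'))).left = 𝟙 S' := by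
    have := Over.w (toUnit (Over.mk (𝟙 S')))
    simpa using this
  have e2 : (toUnit ((Over.map g).obj (Over.mk (𝟙 S')))).left = g := by
    have := Over.w (toUnit ((Over.map g).obj (Over.mk (𝟙 S'))))
    simpa using this
  rw [e1, e2] at h2
  erw [Category.id_comp] at h2
  exact h2

theorem mono_pullback_map_left (i : Y ⟶ X) [Mono i.left] {S' : Scheme.{u}} (g : S' ⟶ S) :
    Mono ((Over.pullback g).map i).left := by
  have hfst : ((Over.pullback g).map i).left ≫ pullback.fst X.hom g = pullback.fst Y.hom g ≫ i.left :=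
    pullback.lift_fst _ _ _
  have hsnd : ((Over.pullback g).map i).left ≫ pullback.snd X.hom g = pullback.snd Y.hom g :=
    pullback.lift_snd _ _ _
  refine ⟨fun {Z} p q hpq => pullback.hom_ext ?_ ?_⟩
  · rw [← cancel_mono i.left, Category.assoc, Category.assoc, ← hfst, reassoc_of% hpq]
  · rw [← hsnd, reassoc_of% hpq]

/-- An unramified chart at the unit gives a universal ideal for a subgroup to be everything. -/
theorem exists_hasUniv_mono_core [GrpObj X] [Smooth X.hom] [GeometricallyIrreducible X.hom]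
    (i : Y ⟶ X) [Mono i.left]
    (hmul : ∀ (T : Over S) (a b : T ⟶ Y), ∃ c : T ⟶ Y, c ≫ i = (a ≫ i) * (b ≫ i))
    {A : Type u} [CommRing A] (σ : Spec (CommRingCat.of A) ⟶ S) (B : Type u) [CommRing B] [Algebra A B]
    [Algebra.Smooth A B] (m : Spec (CommRingCat.of B) ⟶ pullback X.hom σ) [Etale m]
    (hm : m ≫ pullback.snd X.hom σ = Spec.map (CommRingCat.ofHom (algebraMap A B)))
    (ε : B →ₐ[A] A) (hεm : Spec.map (CommRingCat.ofHom ε.toRingHom) ≫ m ≫ pullback.fst X.hom σ = σ ≫ η[X].left)
    (s : Finset B) (hεs : ∀ x ∈ s, ε x = 0)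
    (jQ : Spec (CommRingCat.of (B ⧸ Ideal.span (s : Set B))) ⟶ Y.left)
    (hjQ : jQ ≫ i.left = Spec.map (CommRingCat.ofHom (Ideal.Quotient.mk (Ideal.span (s : Set B)))) ≫
      m ≫ pullback.fst X.hom σ)
    (hlift : ∀ (D : Type u) [CommRing D] (φ : B →+* D) (N : Ideal D), IsNilpotent N →
      (∀ x ∈ s, φ x ∈ N) → ∀ y : Spec (CommRingCat.of D) ⟶ Y.left,
      y ≫ i.left = Spec.map (CommRingCat.ofHom φ) ≫ m ≫ pullback.fst X.hom σ → ∀ x ∈ s, φ x = 0) :
    ∃ 𝔞 : Ideal A, H19Grp.HasUniv X.hom i.left σ 𝔞 ∧ 𝔞.FG := by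
  classical
  refine ⟨taylorIdeal ε (s : Set B), fun C φ => ?_, fg_taylorIdeal A B ε _ s.finite_toSet⟩
  letI : Algebra A C := φ.hom.toAlgebra
  rw [show RingHom.ker φ.hom = RingHom.ker (algebraMap A C) from rfl, taylorIdeal_le_iff]
  let g := Spec.map φ ≫ σ
  let π : pullback X.hom g ⟶ pullback X.hom σ :=
    pullback.lift (pullback.fst X.hom g) (pullback.snd X.hom g ≫ Spec.map φ)
      (by rw [pullback.condition, Category.assoc])
  have hπ : IsPullback π (pullback.snd X.hom g) (pullback.snd X.hom σ) (Spec.map φ) := by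
    refine IsPullback.of_right ?_ (pullback.lift_snd _ _ _) (IsPullback.of_hasPullback X.hom σ)
    rw [pullback.lift_fst]
    exact IsPullback.of_hasPullback X.hom g
  let c := Spec.map (CommRingCat.ofHom
    (Algebra.TensorProduct.includeRight : B →ₐ[A] C ⊗[A] B).toRingHom)
  have h1 : IsPullback (pullback.snd π m) (pullback.fst π m ≫ pullback.snd X.hom g)
      (Spec.map (CommRingCat.ofHom (algebraMap A B))) (Spec.map φ) := by
    have := (IsPullback.of_hasPullback π m).flip.paste_vert hπ
    rwa [hm] at this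
  have h2 : IsPullback c (Spec.map (CommRingCat.ofHom
      (Algebra.TensorProduct.includeLeftRingHom : C →+* C ⊗[A] B)))
      (Spec.map (CommRingCat.ofHom (algebraMap A B))) (Spec.map φ) :=
    (isPullback_SpecMap_of_isPushout _ _ _ _ (CommRingCat.isPushout_tensorProduct A C B)).flip
  let w : Spec (CommRingCat.of (C ⊗[A] B)) ⟶ pullback X.hom g :=
    (h2.isoIsPullback _ _ h1).hom ≫ pullback.fst π m
  haveI : Etale (pullback.fst π m) := MorphismProperty.pullback_fst (P := @Etale) _ _ ‹Etale m›
  haveI : Etale w := inferInstance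
  have hw₁ : w ≫ pullback.fst X.hom g = c ≫ m ≫ pullback.fst X.hom σ := by
    have e1 : (h2.isoIsPullback _ _ h1).hom ≫ pullback.snd π m = c := h2.isoIsPullback_hom_fst _ _ h1
    rw [← e1, Category.assoc, Category.assoc, ← pullback.condition_assoc, pullback.lift_fst]
  have hw₂ : w ≫ pullback.snd X.hom g = Spec.map (CommRingCat.ofHom
      (Algebra.TensorProduct.includeLeftRingHom : C →+* C ⊗[A] B)) := by
    rw [Category.assoc]
    exact h2.isoIsPullback_hom_snd _ _ h1
  constructor
  · rintro ⟨l, hl⟩ x hx n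
    let I := RingHom.ker (baseSection ε C)
    have hnil : IsNilpotent (I.map (Ideal.Quotient.mk (I ^ n))) :=
      ⟨n, by rw [← Ideal.map_pow, Ideal.map_quotient_self, Ideal.zero_eq_bot]⟩
    refine Ideal.Quotient.eq_zero_iff_mem.mp (hlift _
      ((Ideal.Quotient.mk (I ^ n)).comp (Algebra.TensorProduct.includeRight : B →ₐ[A] C ⊗[A] B).toRingHom)
      _ hnil (fun y hy => Ideal.mem_map_of_mem _ ?_)
      (Spec.map (CommRingCat.ofHom (Ideal.Quotient.mk (I ^ n))) ≫ w ≫ l) ?_ x hx)
    · show baseSection ε C ((1 : C) ⊗ₜ[A] y) = 0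
      rw [baseSection_tmul, hεs y hy, map_zero, mul_zero]
    · rw [Category.assoc, Category.assoc, hl, hw₁, ← Category.assoc, ← Spec.map_comp]
      rfl
  · intro H
    have hH : ∀ x ∈ s, ∃ k ∈ RingHom.ker (baseSection ε C), (1 - k) * ((1 : C) ⊗ₜ[A] x) = 0 :=
      fun x hx => exists_annihilator C (C ⊗[A] B) (baseSection ε C) _ (H x hx)
    choose k hk hkx using hH
    let v : C ⊗[A] B := ∏ x ∈ s.attach, (1 - k x.1 x.2)
    have hv : baseSection ε C v = 1 := by
      rw [map_prod]
      refine Finset.prod_eq_one fun x _ => ?_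
      rw [map_sub, map_one, RingHom.mem_ker.mp (hk x.1 x.2), sub_zero]
    have hvx : ∀ x ∈ s, v * ((1 : C) ⊗ₜ[A] x) = 0 := by
      intro x hx
      have hd : (1 - k x hx) ∣ v :=
        Finset.dvd_prod_of_mem (fun x : s => 1 - k x.1 x.2) (Finset.mem_attach s ⟨x, hx⟩)
      obtain ⟨r, hr⟩ := hd
      rw [hr, _root_.mul_comm (1 - k x hx) r, _root_.mul_assoc, hkx, mul_zero]
    let Dv := Localization.Away v
    let θ : C ⊗[A] B →+* Dv := algebraMap _ _
    have hzero : ∀ x ∈ Ideal.span (s : Set B),
        θ ((Algebra.TensorProduct.includeRight : B →ₐ[A] C ⊗[A] B) x) = 0 := by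
      intro x hx
      have : Ideal.span (s : Set B) ≤
          RingHom.ker (θ.comp (Algebra.TensorProduct.includeRight : B →ₐ[A] C ⊗[A] B).toRingHom) := by
        rw [Ideal.span_le]
        intro y hy
        have h := congrArg θ (hvx y hy)
        rw [map_mul, map_zero] at h
        exact (IsLocalization.Away.algebraMap_isUnit v).mul_right_eq_zero.mp h
      exact this hx
    let wv : Spec (CommRingCat.of Dv) ⟶ pullback X.hom g := Spec.map (CommRingCat.ofHom θ) ≫ w
    haveI : IsOpenImmersion (Spec.map (CommRingCat.ofHom θ)) := by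
      exact IsOpenImmersion.of_isLocalization v
    haveI : Etale wv := inferInstance
    let yv : Spec (CommRingCat.of Dv) ⟶ Y.left :=
      Spec.map (CommRingCat.ofHom (Ideal.Quotient.lift (Ideal.span (s : Set B))
        (θ.comp (Algebra.TensorProduct.includeRight : B →ₐ[A] C ⊗[A] B).toRingHom) hzero)) ≫ jQ
    have hyv : yv ≫ i.left = wv ≫ pullback.fst X.hom g := by
      rw [Category.assoc, hjQ, ← Category.assoc, ← Spec.map_comp]
      show _ = (Spec.map (CommRingCat.ofHom θ) ≫ w) ≫ _
      rw [Category.assoc, hw₁, ← Category.assoc (Spec.map (CommRingCat.ofHom θ)) c, ← Spec.map_comp]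
      rfl
    let ig := (Over.pullback g).map i
    have higfst : ig.left ≫ pullback.fst X.hom g = pullback.fst Y.hom g ≫ i.left := pullback.lift_fst _ _ _
    have higsnd : ig.left ≫ pullback.snd X.hom g = pullback.snd Y.hom g := pullback.lift_snd _ _ _
    haveI : Mono ig.left := mono_pullback_map_left i g
    let yvC : Spec (CommRingCat.of Dv) ⟶ pullback Y.hom g :=
      pullback.lift yv (wv ≫ pullback.snd X.hom g) (by
        rw [← Over.w i, ← Category.assoc, hyv]; simp only [wv, Category.assoc, pullback.condition])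
    have hyvC : yvC ≫ ig.left = wv := by
      apply pullback.hom_ext
      · rw [Category.assoc, higfst, pullback.lift_fst_assoc, hyv]
      · rw [Category.assoc, higsnd, pullback.lift_snd]
    let Ω : (pullback X.hom g).Opens := ⟨Set.range wv, wv.isOpenMap.isOpen_range⟩
    let qΩ : Spec (CommRingCat.of Dv) ⟶ Ω := IsOpenImmersion.lift Ω.ι wv (by rw [Scheme.Opens.range_ι]; rfl)
    have hqΩ : qΩ ≫ Ω.ι = wv := IsOpenImmersion.lift_fac _ _ _
    haveI : Etale (qΩ ≫ Ω.ι) := hqΩ.symm ▸ inferInstance
    haveI : Etale qΩ := Etale.of_comp qΩ Ω.ι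
    haveI : Surjective qΩ := ⟨fun ⟨z, t, ht⟩ => ⟨t, by
      apply Subtype.ext
      show Ω.ι (qΩ t) = z
      rw [← Scheme.Hom.comp_apply, hqΩ, ht]⟩⟩
    haveI : IsIso (pullback.snd ig.left Ω.ι) :=
      isIso_of_mono_of_factor _ qΩ (pullback.lift yvC qΩ (by rw [hyvC, hqΩ])) (pullback.lift_snd _ _ _)
    letI : GrpObj (Red.bc g X) := Functor.grpObjObj
    haveI : Smooth (Red.bc g X).hom := MorphismProperty.pullback_snd (P := @Smooth) _ _ ‹_›
    haveI : GeometricallyIrreducible (Red.bc g X).hom :=
      inferInstanceAs (GeometricallyIrreducible (pullback.snd X.hom g))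
    haveI : Mono ((Over.pullback g).map i).left := mono_pullback_map_left i g
    haveI hiso : IsIso ig.left := by
      refine isIso_of_open_nhd_one ig (hmul_bc i hmul g) Ω (fun t => ?_)
        (inv (pullback.snd ig.left Ω.ι) ≫ pullback.fst ig.left Ω.ι) ?_
      · let sec : Spec C ⟶ Spec (CommRingCat.of (C ⊗[A] B)) :=
          Spec.map (CommRingCat.ofHom (baseSection ε C).toRingHom)
        have hsec : sec ≫ w = (η[Red.bc g X]).left := by
          apply pullback.hom_ext
          · rw [Category.assoc, hw₁, bc_one_left_fst, ← Category.assoc, ← Spec.map_comp]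
            rw [show CommRingCat.ofHom (Algebra.TensorProduct.includeRight : B →ₐ[A] C ⊗[A] B).toRingHom ≫
              CommRingCat.ofHom (baseSection ε C).toRingHom = CommRingCat.ofHom ε.toRingHom ≫ φ from ?_,
              Spec.map_comp, Category.assoc, hεm, Category.assoc]
            · ext b
              show baseSection ε C ((1 : C) ⊗ₜ[A] b) = φ.hom (ε b)
              rw [baseSection_tmul, _root_.one_mul]
              rfl
          · rw [Category.assoc, hw₂, ← Spec.map_comp]
            refine Eq.trans ?_ (Over.w η[Red.bc g X]).symm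
            rw [show CommRingCat.ofHom (Algebra.TensorProduct.includeLeftRingHom : C →+* C ⊗[A] B) ≫
              CommRingCat.ofHom (baseSection ε C).toRingHom = 𝟙 C from ?_]
            · exact (Spec.map_id C).trans rfl
            · ext b
              show baseSection ε C (b ⊗ₜ[A] (1 : B)) = b
              rw [baseSection_tmul, map_one, map_one, _root_.mul_one]
        obtain ⟨p, hp⟩ : sec t ∈ Set.range (Spec.map (CommRingCat.ofHom θ)) := by
          show sec t ∈ Set.range (PrimeSpectrum.comap θ)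
          rw [PrimeSpectrum.localization_away_comap_range Dv v]
          intro hmem
          refine t.isPrime.ne_top ((Ideal.eq_top_iff_one _).mpr ?_)
          rw [← hv]
          exact hmem
        refine ⟨p, ?_⟩
        rw [← hsec]
        show (Spec.map (CommRingCat.ofHom θ) ≫ w) p = (sec ≫ w) t
        rw [Scheme.Hom.comp_apply, Scheme.Hom.comp_apply, hp]
        rfl
      · rw [Category.assoc, pullback.condition, IsIso.inv_hom_id_assoc]
    refine ⟨inv ig.left ≫ pullback.fst Y.hom g, ?_⟩
    rw [Category.assoc, ← higfst, IsIso.inv_hom_id_assoc]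

end Groth.Agent.H21Taylor
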