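import Groth.Agent.H21Taylor.Global
import Groth.Agent.H19Grp.TransporterRel
import Mathlib

/-!
# Transporters of smooth geometrically integral schemes into closed subschemes
-/

set_option autoImplicit false
set_option linter.style.haveILetI false
set_option backward.isDefEq.respectTransparency false

universe u

open CategoryTheory CategoryTheory.Limits MonoidalCategory CartesianMonoidalCategory AlgebraicGeometry

namespace Groth.Agent.H21Taylor

/-- The closed subscheme of `G` over which a morphism on `G ×_S X` factors through a closed subscheme. -/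
theorem exists_closed_forall_factor {S : Scheme.{u}} {G X Z' Z : Over S}
    (c : G ⊗ X ⟶ Z) (y : Z' ⟶ Z) [IsClosedImmersion y.left] [Smooth X.hom]
    [GeometricallyIntegral X.hom] :
    ∃ (T : Over S) (t : T ⟶ G), IsClosedImmersion t.left ∧
      (LocallyOfFinitePresentation y.left → LocallyOfFinitePresentation t.left) ∧
      ∀ (S' : Over S) (g : S' ⟶ G), (∃ z : S' ⟶ T, z ≫ t = g) ↔
        ∀ (S'' : Over S) (s : S'' ⟶ S') (x : S'' ⟶ X),
          ∃ x' : S'' ⟶ Z', x' ≫ y = lift (s ≫ g) x ≫ c := by
  haveI : Smooth (fst G X).left :=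
    inferInstanceAs (Smooth (pullback.fst G.hom X.hom))
  haveI : GeometricallyIntegral (fst G X).left :=
    inferInstanceAs (GeometricallyIntegral (pullback.fst G.hom X.hom))
  obtain ⟨T, t, ht, hT, hfp⟩ := exists_closed_contains (fst G X).left (pullback.fst c.left y.left)
  refine ⟨Over.mk (t ≫ G.hom), Over.homMk t rfl, ht, fun hy => hfp ?_, fun S' g => ?_⟩
  · haveI := hy
    infer_instance
  have h : (∃ z : S' ⟶ Over.mk (t ≫ G.hom), z ≫ Over.homMk t rfl = g) ↔
      ∃ x' : S' ⊗ X ⟶ Z', x' ≫ y = (g ▷ X) ≫ c := by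
    rw [← H19Grp.contains_fst_iff_rel c y g, ← hT]
    constructor
    · rintro ⟨z, rfl⟩
      exact ⟨z.left, rfl⟩
    · rintro ⟨z, hz⟩
      refine ⟨Over.homMk z ?_, Over.OverMorphism.ext hz⟩
      show z ≫ t ≫ G.hom = S'.hom
      rw [← Category.assoc, hz, Over.w]
  rw [h]
  constructor
  · rintro ⟨x', hx'⟩ S'' s x
    exact ⟨lift s x ≫ x', by
      rw [Category.assoc, hx', ← Category.assoc, lift_whiskerRight]⟩
  · intro H
    obtain ⟨x', hx'⟩ := H (S' ⊗ X) (fst S' X) (snd S' X)
    refine ⟨x', hx'.trans ?_⟩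
    congr 1

end Groth.Agent.H21Taylor
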